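/-
Systems that are central products of two subsystems: an internal description, fullness and
normality of the factors.
-/
import Cfsg.Agent.Lib.Fusion.FittingProduct
import Cfsg.Agent.Lib.Fusion.LayerExists
import Cfsg.Agent.S5119

set_option autoImplicit false

namespace Cfsg.Agent.Lib.Fusion.TwoFactor

open Cfsg Cfsg.FusionSystem

universe u

variable {Ω : Type u} [Group Ω] {S S₁ S₂ : Subgroup Ω} {p : ℕ}

/-- Two systems with the same maps are equal. -/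
theorem hom_ext {F E : FusionSystem S} (h : ∀ P : Subgroup Ω, F.Hom P = E.Hom P) : F = E := by
  cases F; cases E
  congr 1
  exact funext h

/-- `F` is the central product of `E₁` and `E₂`, described inside the ambient group. -/
structure IsTwoFactor (F : FusionSystem S) (E₁ : FusionSystem S₁) (E₂ : FusionSystem S₂) (p : ℕ) :
    Prop where
  sat : F.IsSaturated p
  sat₁ : E₁.IsSaturated p
  sat₂ : E₂.IsSaturated p
  top : S₁ ⊔ S₂ = S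
  comm : ∀ a ∈ S₁, ∀ b ∈ S₂, a * b = b * a
  dec : ∀ x ∈ S, ∃ a ∈ S₁, ∃ b ∈ S₂, x = a * b
  fix₁ : ∀ (P : Subgroup Ω) (φ : P →* Ω), φ ∈ E₁.Hom P → ∀ x : P, (x : Ω) ∈ S₂ → φ x = x
  fix₂ : ∀ (P : Subgroup Ω) (φ : P →* Ω), φ ∈ E₂.Hom P → ∀ x : P, (x : Ω) ∈ S₁ → φ x = x
  decomp : ∀ (P : Subgroup Ω) (φ : P →* Ω), φ ∈ F.Hom P →
    ∃ (P₁ P₂ : Subgroup Ω) (φ₁ : P₁ →* Ω) (φ₂ : P₂ →* Ω), φ₁ ∈ E₁.Hom P₁ ∧ φ₂ ∈ E₂.Hom P₂ ∧
      ∀ x : P, ∃ (a : P₁) (b : P₂), (x : Ω) = a * b ∧ φ x = φ₁ a * φ₂ b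
  glue : ∀ (P₁ P₂ : Subgroup Ω) (φ₁ : P₁ →* Ω) (φ₂ : P₂ →* Ω), φ₁ ∈ E₁.Hom P₁ → φ₂ ∈ E₂.Hom P₂ →
    ∃ ψ ∈ F.Hom (P₁ ⊔ P₂), (∀ a : P₁, ψ (Subgroup.inclusion le_sup_left a) = φ₁ a) ∧
      ∀ b : P₂, ψ (Subgroup.inclusion le_sup_right b) = φ₂ b

namespace IsTwoFactor

variable {F : FusionSystem S} {E₁ : FusionSystem S₁} {E₂ : FusionSystem S₂}

theorem symm (h : IsTwoFactor F E₁ E₂ p) : IsTwoFactor F E₂ E₁ p where
  sat := h.sat
  sat₁ := h.sat₂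
  sat₂ := h.sat₁
  top := (sup_comm _ _).trans h.top
  comm a ha b hb := (h.comm b hb a ha).symm
  dec x hx := by
    obtain ⟨a, ha, b, hb, rfl⟩ := h.dec x hx
    exact ⟨b, hb, a, ha, h.comm a ha b hb⟩
  fix₁ := h.fix₂
  fix₂ := h.fix₁
  decomp P φ hφ := by
    obtain ⟨P₁, P₂, φ₁, φ₂, h₁, h₂, hx⟩ := h.decomp P φ hφ
    refine ⟨P₂, P₁, φ₂, φ₁, h₂, h₁, fun x => ?_⟩
    obtain ⟨a, b, hab, hφab⟩ := hx x
    exact ⟨b, a, hab.trans (h.comm _ (src_le h₁ a.2) _ (src_le h₂ b.2)),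
      hφab.trans (h.comm _ (val_mem h₁ a) _ (val_mem h₂ b))⟩
  glue P₁ P₂ φ₁ φ₂ h₁ h₂ := by
    obtain ⟨ψ, hψ, ha, hb⟩ := h.glue P₂ P₁ φ₂ φ₁ h₂ h₁
    refine ⟨_, restrict_mem hψ (sup_comm P₁ P₂).le, fun a => ?_, fun b => ?_⟩
    · exact Eq.trans (congrArg ψ (Subtype.ext rfl)) (hb a)
    · exact Eq.trans (congrArg ψ (Subtype.ext rfl)) (ha b)

theorem le_left (h : IsTwoFactor F E₁ E₂ p) : S₁ ≤ S := le_sup_left.trans h.top.le

theorem le_right (h : IsTwoFactor F E₁ E₂ p) : S₂ ≤ S := le_sup_right.trans h.top.le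

theorem subsystem (h : IsTwoFactor F E₁ E₂ p) : E₁.IsSubsystemOf F := fun P φ hφ => by
  obtain ⟨ψ, hψ, ha, -⟩ := h.glue P ⊥ φ (⊥ : Subgroup Ω).subtype hφ (subtype_mem bot_le)
  exact mem_of_restrict hψ le_sup_left fun x => (ha x).symm

theorem le_centralizer (h : IsTwoFactor F E₁ E₂ p) {A : Subgroup Ω} (hA : A ≤ S₁) :
    S₂ ≤ centralizerIn S A := fun b hb =>
  ⟨h.le_right hb, fun a ha => h.comm a (hA ha) b hb⟩

theorem isCentral_inter [Fact p.Prime] [Finite S] (hS : IsPGroup p S)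
    (h : IsTwoFactor F E₁ E₂ p) : E₁.IsCentral (S₁ ⊓ S₂) := by
  haveI : Finite S₁ := finite_of_le h.le_left
  refine isCentral_of_fixed (hS.to_le h.le_left) h.sat₁ inf_le_left fun x hx y hy => ?_
  obtain ⟨φ, hφ, rfl⟩ := hy
  exact h.fix₁ _ φ hφ _ hx.2

/-- A map of a factor extends to the intersection, fixing it. -/
theorem exists_ext [Fact p.Prime] [Finite S] (hS : IsPGroup p S) (h : IsTwoFactor F E₁ E₂ p)
    {P : Subgroup Ω} {φ : P →* Ω} (hφ : φ ∈ E₁.Hom P) :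
    ∃ ψ ∈ E₁.Hom (P ⊔ (S₁ ⊓ S₂)), (∀ x : P, ψ (Subgroup.inclusion le_sup_left x) = φ x) ∧
      ∀ z : ↥(S₁ ⊓ S₂), ψ (Subgroup.inclusion le_sup_right z) = z :=
  (h.isCentral_inter hS).2 P φ hφ

/-- The factor is a full subsystem. -/
theorem full [Fact p.Prime] [Finite S] (hS : IsPGroup p S) (h : IsTwoFactor F E₁ E₂ p)
    {P : Subgroup Ω} (hP : P ≤ S₁) {φ : P →* Ω} (hφ : φ ∈ F.Hom P) : φ ∈ E₁.Hom P := by
  obtain ⟨P₁, P₂, φ₁, φ₂, h₁, h₂, hx⟩ := h.decomp P φ hφ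
  obtain ⟨ψ, hψ, hψa, hψz⟩ := h.exists_ext hS h₁
  have hb : ∀ (x : P) (a : P₁) (b : P₂), (x : Ω) = a * b → (b : Ω) ∈ S₁ ⊓ S₂ := by
    intro x a b hab
    refine ⟨?_, src_le h₂ b.2⟩
    rw [show (b : Ω) = (a : Ω)⁻¹ * x by rw [hab, inv_mul_cancel_left]]
    exact S₁.mul_mem (S₁.inv_mem (src_le h₁ a.2)) (hP x.2)
  have hle : P ≤ P₁ ⊔ (S₁ ⊓ S₂) := fun x hxP => by
    obtain ⟨a, b, hab, -⟩ := hx ⟨x, hxP⟩
    rw [show x = a * b from hab]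
    exact Subgroup.mul_mem_sup a.2 (hb ⟨x, hxP⟩ a b hab)
  refine mem_of_restrict hψ hle fun x => ?_
  obtain ⟨a, b, hab, hφab⟩ := hx x
  have hbZ := hb x a b hab
  rw [hφab, h.fix₂ _ _ h₂ b hbZ.1,
    show (⟨x, hle x.2⟩ : ↥(P₁ ⊔ (S₁ ⊓ S₂))) =
      Subgroup.inclusion (le_sup_left : P₁ ≤ P₁ ⊔ (S₁ ⊓ S₂)) a *
      Subgroup.inclusion (le_sup_right : S₁ ⊓ S₂ ≤ P₁ ⊔ (S₁ ⊓ S₂)) (⟨b, hbZ⟩ : ↥(S₁ ⊓ S₂)) from
      Subtype.ext hab, map_mul, hψa, hψz]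

theorem stronglyClosed [Fact p.Prime] [Finite S] (hS : IsPGroup p S)
    (h : IsTwoFactor F E₁ E₂ p) : F.StronglyClosed S₁ :=
  ⟨h.le_left, fun _ hR _ hφ x => val_mem (h.full hS hR hφ) x⟩

/-- The factor is normal. -/
theorem isNormalIn [Fact p.Prime] [Finite S] (hS : IsPGroup p S)
    (h : IsTwoFactor F E₁ E₂ p) : E₁.IsNormalIn F p := by
  have hS₁ := h.le_left
  haveI : Finite S₁ := finite_of_le hS₁
  refine ⟨⟨h.sat₁, h.sat, (S5119.result p hS F h.sat E₁ h.subsystem (h.stronglyClosed hS)).2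
    fun P Q hPQ hQ φ hφ hφQ ψ hψ => ?_⟩, fun α hα => ?_⟩
  · have hψ' := h.full hS hQ hψ
    have hres := restrict_mem hψ' hPQ
    obtain ⟨τ, hτ, hτr, hτx, -⟩ := exists_inverse hres rfl
    obtain ⟨μ, hμ, hμx⟩ := exists_comp hτ hφ fun y => hτr.le ⟨y, rfl⟩
    obtain ⟨χ, hχ, hχx⟩ := exists_comp hμ hψ' fun y => by rw [hμx]; exact hφQ _
    have hle : (P.subgroupOf Q).map ψ ≤ (ψ.comp (Subgroup.inclusion hPQ)).range := by
      rintro _ ⟨y, hy, rfl⟩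
      exact ⟨⟨y, hy⟩, congrArg ψ (Subtype.ext rfl)⟩
    refine ⟨_, restrict_mem hχ hle, fun x hx => ?_⟩
    show χ _ = _
    rw [hχx]
    refine congrArg ψ (Subtype.ext ?_)
    refine (hμx _).trans ?_
    exact congrArg φ (Subtype.ext (hτx x _))
  · have hαm := autGroup_hom_mem le_rfl hα
    obtain ⟨ψ, hψ, hψa, hψb⟩ := h.glue S₁ S₂ _ S₂.subtype hαm (subtype_mem le_rfl)
    have hV : S₁ ⊔ centralizerIn S S₁ ≤ S₁ ⊔ S₂ := by
      rw [h.top]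
      exact sup_le hS₁ inf_le_left
    haveI : Finite ↥(S₁ ⊔ centralizerIn S S₁) := finite_of_le (hV.trans h.top.le)
    have key : ∀ (c : Ω) (hc : c ∈ S₁ ⊔ S₂), c ∈ centralizerIn S S₁ →
        c⁻¹ * ψ ⟨c, hc⟩ ∈ S₁ ⊓ Subgroup.centralizer (S₁ : Set Ω) := by
      intro c hc hcC
      obtain ⟨a, ha, b, hb, hab⟩ := h.dec c hcC.1
      have haC : a ∈ Subgroup.centralizer (S₁ : Set Ω) := by
        rw [show a = c * b⁻¹ by rw [hab, mul_inv_cancel_right]]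
        exact Subgroup.mul_mem _ hcC.2 (Subgroup.inv_mem _ ((h.le_centralizer le_rfl hb).2))
      have hαC : (α ⟨a, ha⟩ : Ω) ∈ Subgroup.centralizer (S₁ : Set Ω) := by
        intro s hs
        obtain ⟨t, ht⟩ := α.surjective ⟨s, hs⟩
        rw [show s = (α t : Ω) from congrArg Subtype.val ht.symm, ← Subgroup.coe_mul,
          ← Subgroup.coe_mul, ← map_mul, ← map_mul]
        exact congrArg (fun w : S₁ => (α w : Ω)) (Subtype.ext (haC t t.2))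
      have e : ψ ⟨c, hc⟩ = α ⟨a, ha⟩ * b := by
        rw [show (⟨c, hc⟩ : ↥(S₁ ⊔ S₂)) = Subgroup.inclusion le_sup_left (⟨a, ha⟩ : S₁) *
          Subgroup.inclusion le_sup_right (⟨b, hb⟩ : S₂) from Subtype.ext hab, map_mul, hψa, hψb]
        rfl
      have e2 : c⁻¹ * ψ ⟨c, hc⟩ = a⁻¹ * α ⟨a, ha⟩ := by
        rw [e, hab, mul_inv_rev]
        calc b⁻¹ * a⁻¹ * ((α ⟨a, ha⟩ : Ω) * b)
            = b⁻¹ * (a⁻¹ * (α ⟨a, ha⟩ : Ω) * b) := by group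
          _ = b⁻¹ * (b * (a⁻¹ * (α ⟨a, ha⟩ : Ω))) := by
            rw [h.comm _ (S₁.mul_mem (S₁.inv_mem ha) (α ⟨a, ha⟩).2) b hb]
          _ = a⁻¹ * α ⟨a, ha⟩ := by group
      rw [e2]
      exact ⟨S₁.mul_mem (S₁.inv_mem ha) (α ⟨a, ha⟩).2,
        Subgroup.mul_mem _ (Subgroup.inv_mem _ haC) hαC⟩
    obtain ⟨β, hβ, hβx⟩ := exists_aut_of_hom (restrict_mem hψ hV) (hom_sup_mem _
      (fun s => Subgroup.mem_sup_left (by
        rw [MonoidHom.comp_apply]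
        rw [show Subgroup.inclusion hV (Subgroup.inclusion le_sup_left s) =
          Subgroup.inclusion le_sup_left s from rfl, hψa]
        exact (α s).2))
      (fun c => by
        have h1 := key c (hV (Subgroup.mem_sup_right c.2)) c.2
        have h2 := Subgroup.mul_mem _ (Subgroup.mem_sup_right (S := S₁) c.2)
          (Subgroup.mem_sup_left (T := centralizerIn S S₁) h1.1)
        rwa [mul_inv_cancel_left] at h2))
    refine ⟨β, hβ, fun x => ?_, fun c hc => ?_⟩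
    · rw [hβx]
      exact hψa x
    · rw [hβx]
      exact key c (hV c.2) hc

end IsTwoFactor

/-- The fixing condition holds in a central product. -/
theorem fix_of_isCentralProductOf {D : FusionSystem S} {E₁ : FusionSystem S₁}
    {E₂ : FusionSystem S₂} [Finite S₁] [Finite S₂] (h : IsCentralProductOf E₁ E₂ D) :
    (∀ (P : Subgroup Ω) (φ : P →* Ω), φ ∈ E₁.Hom P → ∀ x : P, (x : Ω) ∈ S₂ → φ x = x) ∧
      ∀ (P : Subgroup Ω) (φ : P →* Ω), φ ∈ E₂.Hom P → ∀ x : P, (x : Ω) ∈ S₁ → φ x = x := by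
  obtain ⟨D₀, hD₀, Z, θ, hZc, -, -, hθ1, hθ2, -, hker, -, -⟩ := h
  haveI : Finite (S₁.prod S₂ : Subgroup (Ω × Ω)) :=
    Finite.of_equiv _ (Subgroup.prodEquiv S₁ S₂).symm.toEquiv
  have key : ∀ {P Q : Subgroup Ω} {φ : P →* Ω} {ψ : Q →* Ω}, φ ∈ E₁.Hom P → ψ ∈ E₂.Hom Q →
      ∀ x : Ω, ∀ (hx : x ∈ P) (hx' : x⁻¹ ∈ Q), φ ⟨x, hx⟩ = x ∧ ψ ⟨x⁻¹, hx'⟩ = x⁻¹ := by
    intro P Q φ ψ hφ hψ x hx hx'
    have hle : P.prod Q ≤ S₁.prod S₂ := Subgroup.prod_mono (src_le hφ) (src_le hψ)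
    have hm₁ : (P.prod Q).map (MonoidHom.fst Ω Ω) ≤ P := by
      rintro _ ⟨w, hw, rfl⟩; exact (Subgroup.mem_prod.1 hw).1
    have hm₂ : (P.prod Q).map (MonoidHom.snd Ω Ω) ≤ Q := by
      rintro _ ⟨w, hw, rfl⟩; exact (Subgroup.mem_prod.1 hw).2
    set φ₀ : P.prod Q →* Ω × Ω :=
      (φ.prodMap ψ).comp (Subgroup.prodEquiv P Q).toMonoidHom with hφ₀
    have hm : φ₀ ∈ D₀.Hom (P.prod Q) := (hD₀ _ φ₀).2 ⟨hle, _, restrict_mem hφ hm₁, _,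
      restrict_mem hψ hm₂, fun w _ _ => rfl⟩
    have hw : ((x, x⁻¹) : Ω × Ω) ∈ Z := by
      refine (hker ⟨(x, x⁻¹), hle (Subgroup.mem_prod.2 ⟨hx, hx'⟩)⟩).1 ?_
      rw [show (⟨(x, x⁻¹), hle (Subgroup.mem_prod.2 ⟨hx, hx'⟩)⟩ : S₁.prod S₂) =
        ⟨(x, 1), Subgroup.mem_prod.2 ⟨src_le hφ hx, S₂.one_mem⟩⟩ *
          ⟨(1, x⁻¹), Subgroup.mem_prod.2 ⟨S₁.one_mem, src_le hψ hx'⟩⟩ from
        Subtype.ext (Prod.ext (mul_one x).symm (one_mul _).symm), map_mul, hθ1, hθ2,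
        mul_inv_cancel]
    have h1 := Fusion87.apply_eq_of_mem_center hm ⟨(x, x⁻¹), Subgroup.mem_prod.2 ⟨hx, hx'⟩⟩
      (hZc hw)
    exact ⟨congrArg Prod.fst h1, congrArg Prod.snd h1⟩
  refine ⟨fun P φ hφ x hx => ?_, fun P φ hφ x hx => ?_⟩
  · exact (key hφ (subtype_mem (F := E₂) (Subgroup.zpowers_le.2 hx)) x x.2
      (Subgroup.inv_mem _ (Subgroup.mem_zpowers (x : Ω)))).1
  · have h1 := (key (subtype_mem (F := E₁) (Subgroup.zpowers_le.2 hx)) hφ (x : Ω)⁻¹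
      (Subgroup.inv_mem _ (Subgroup.mem_zpowers (x : Ω)))
      (by rw [inv_inv]; exact x.2)).2
    simp only [inv_inv] at h1
    exact h1

/-- A central product is a two-factor system. -/
theorem isTwoFactor_of_isCentralProductOf {D : FusionSystem S} {E₁ : FusionSystem S₁}
    {E₂ : FusionSystem S₂} [Finite S₁] [Finite S₂] (hD : D.IsSaturated p) (h₁ : E₁.IsSaturated p)
    (h₂ : E₂.IsSaturated p) (h : IsCentralProductOf E₁ E₂ D) : IsTwoFactor D E₁ E₂ p := by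
  obtain ⟨htop, hcomm, hdec⟩ := CentralProduct.top_eq_and_comm h
  obtain ⟨hf₁, hf₂⟩ := fix_of_isCentralProductOf h
  exact ⟨hD, h₁, h₂, htop, hcomm, hdec, hf₁, hf₂,
    fun _ _ hφ => CentralProduct.exists_decomp h hφ,
    fun _ _ _ _ ha hb => CentralProduct.exists_hom_sup h ha hb⟩

end Cfsg.Agent.Lib.Fusion.TwoFactor
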