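/-
The product of normal subsystems of the two factors is normal in a two-factor system.
-/
import Cfsg.Agent.Lib.Fusion.TwoFactor.Basic

set_option autoImplicit false

namespace Cfsg.Agent.Lib.Fusion.TwoFactor

open Cfsg Cfsg.FusionSystem
open Cfsg.Agent.Lib.FusionFactor (exists_productSystem exists_factorSystem)

universe u

variable {Ω : Type u} [Group Ω] {S S₁ S₂ V₁ V₂ : Subgroup Ω} {p : ℕ}

/-- Two saturated systems that commute and fix their intersection have a saturated product. -/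
theorem exists_isTwoFactor [Fact p.Prime] [Finite V₁] [Finite V₂] {X₁ : FusionSystem V₁}
    {X₂ : FusionSystem V₂} (hp₁ : IsPGroup p V₁) (hp₂ : IsPGroup p V₂)
    (h₁ : X₁.IsSaturated p) (h₂ : X₂.IsSaturated p)
    (hcomm : ∀ a ∈ V₁, ∀ b ∈ V₂, a * b = b * a)
    (hf₁ : ∀ (P : Subgroup Ω) (φ : P →* Ω), φ ∈ X₁.Hom P → ∀ x : P, (x : Ω) ∈ V₂ → φ x = x)
    (hf₂ : ∀ (P : Subgroup Ω) (φ : P →* Ω), φ ∈ X₂.Hom P → ∀ x : P, (x : Ω) ∈ V₁ → φ x = x) :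
    ∃ D : FusionSystem (V₁ ⊔ V₂), IsTwoFactor D X₁ X₂ p := by
  haveI : Finite (V₁.prod V₂ : Subgroup (Ω × Ω)) :=
    Finite.of_equiv _ (Subgroup.prodEquiv V₁ V₂).symm.toEquiv
  obtain ⟨D₀, hD₀⟩ := exists_productSystem X₁ X₂
  have hD₀s := isSaturated_product hp₁ hp₂ h₁ h₂ hD₀
  let θ : ↥(V₁.prod V₂) →* Ω := MonoidHom.mk' (fun z => (z : Ω × Ω).1 * (z : Ω × Ω).2) (by
    rintro ⟨⟨a, b⟩, hab⟩ ⟨⟨a', b'⟩, hab'⟩
    show a * a' * (b * b') = a * b * (a' * b')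
    have h := hcomm a' (Subgroup.mem_prod.1 hab').1 b (Subgroup.mem_prod.1 hab).2
    calc a * a' * (b * b') = a * (a' * b) * b' := by group
      _ = a * (b * a') * b' := by rw [h]
      _ = a * b * (a' * b') := by group)
  set Z : Subgroup (Ω × Ω) := θ.ker.map (V₁.prod V₂).subtype with hZdef
  have hZle : Z ≤ V₁.prod V₂ := Subgroup.map_subtype_le _
  have hZmem : ∀ x ∈ Z, x.1 ∈ V₁ ∧ x.2 ∈ V₂ ∧ x.2 = x.1⁻¹ := by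
    rintro _ ⟨⟨⟨a, b⟩, hab⟩, hk, rfl⟩
    have hk' : a * b = 1 := hk
    exact ⟨(Subgroup.mem_prod.1 hab).1, (Subgroup.mem_prod.1 hab).2,
      eq_inv_of_mul_eq_one_right hk'⟩
  have hker : ∀ s, θ s = 1 ↔ (s : Ω × Ω) ∈ Z := fun s =>
    ⟨fun h => ⟨s, h, rfl⟩, fun ⟨w, hw, hws⟩ => by rw [← Subtype.ext hws]; exact hw⟩
  have hcen : D₀.IsCentral Z := by
    refine isCentral_of_fixed (isPGroup_prod hp₁ hp₂) hD₀s hZle fun x hx y hy => ?_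
    obtain ⟨φ, hφ, rfl⟩ := hy
    obtain ⟨-, φ₁, hφ₁, φ₂, hφ₂, heq⟩ := (hD₀ _ φ).1 hφ
    obtain ⟨ha, hb, hab⟩ := hZmem x hx
    rw [heq ⟨x, Subgroup.mem_zpowers x⟩ ⟨x, Subgroup.mem_zpowers x, rfl⟩
      ⟨x, Subgroup.mem_zpowers x, rfl⟩]
    refine Prod.ext (hf₁ _ _ hφ₁ _ ?_) (hf₂ _ _ hφ₂ _ ?_)
    · show x.1 ∈ V₂
      rw [hab] at hb
      exact (Subgroup.inv_mem_iff V₂).1 hb
    · show x.2 ∈ V₁
      rw [hab]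
      exact Subgroup.inv_mem _ ha
  have hrange : θ.range = V₁ ⊔ V₂ := by
    refine le_antisymm ?_ (sup_le (fun r hr => ?_) fun t ht => ?_)
    · rintro _ ⟨⟨⟨a, b⟩, hab⟩, rfl⟩
      exact Subgroup.mul_mem_sup (Subgroup.mem_prod.1 hab).1 (Subgroup.mem_prod.1 hab).2
    · exact ⟨⟨(r, 1), Subgroup.mem_prod.2 ⟨hr, V₂.one_mem⟩⟩, mul_one r⟩
    · exact ⟨⟨(1, t), Subgroup.mem_prod.2 ⟨V₁.one_mem, ht⟩⟩, one_mul t⟩
  obtain ⟨D, hD⟩ := exists_factorSystem θ D₀ (stronglyClosed_of_isCentral' hcen) hker hrange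
  refine ⟨D, isTwoFactor_of_isCentralProductOf
    (isSaturated_of_isFactorSystem (isPGroup_prod hp₁ hp₂) hD₀s
      (stronglyClosed_of_isCentral' hcen) hD) h₁ h₂
    ⟨D₀, hD₀, Z, θ, le_sSup hcen, ?_, ?_, fun x _ => mul_one x, fun y _ => one_mul y, hD⟩⟩
  · rw [eq_bot_iff]
    rintro ⟨a, b⟩ ⟨hx, hx'⟩
    have hb : b = 1 := Subgroup.mem_bot.1 (Subgroup.mem_prod.1 hx').2
    have h := (hZmem _ hx).2.2
    subst hb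
    rw [Subgroup.mem_bot, Prod.mk_eq_one]
    exact ⟨inv_eq_one.1 h.symm, rfl⟩
  · rw [eq_bot_iff]
    rintro ⟨a, b⟩ ⟨hx, hx'⟩
    have ha : a = 1 := Subgroup.mem_bot.1 (Subgroup.mem_prod.1 hx').1
    have h := (hZmem _ hx).2.2
    subst ha
    rw [Subgroup.mem_bot, Prod.mk_eq_one]
    exact ⟨rfl, h.trans inv_one⟩

variable {F : FusionSystem S} {E₁ : FusionSystem S₁} {E₂ : FusionSystem S₂}
  {X₁ : FusionSystem V₁} {X₂ : FusionSystem V₂} {D : FusionSystem (V₁ ⊔ V₂)}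

/-- The value of a glued map does not depend on the decomposition. -/
theorem glued_eq {A₁ A₂ : Subgroup Ω} (Ψ₁ : A₁ →* Ω) (Ψ₂ : A₂ →* Ω)
    (h₁ : ∀ z : A₁, (z : Ω) ∈ S₁ ⊓ S₂ → Ψ₁ z = z) (h₂ : ∀ z : A₂, (z : Ω) ∈ S₁ ⊓ S₂ → Ψ₂ z = z)
    (hA₁ : A₁ ≤ S₁) (hA₂ : A₂ ≤ S₂) {a q₁ : A₁} {b q₂ : A₂}
    (h : (a : Ω) * b = q₁ * q₂) : Ψ₁ a * Ψ₂ b = Ψ₁ q₁ * Ψ₂ q₂ := by
  have hz : ((q₁⁻¹ * a : A₁) : Ω) = ((q₂ * b⁻¹ : A₂) : Ω) := by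
    simp only [Subgroup.coe_mul, Subgroup.coe_inv]
    rw [eq_mul_inv_iff_mul_eq, mul_assoc, h, inv_mul_cancel_left]
  have e₁ := h₁ (q₁⁻¹ * a) ⟨hA₁ (q₁⁻¹ * a).2, hz ▸ hA₂ (q₂ * b⁻¹).2⟩
  have e₂ := h₂ (q₂ * b⁻¹) ⟨hz ▸ hA₁ (q₁⁻¹ * a).2, hA₂ (q₂ * b⁻¹).2⟩
  have e := e₁.trans (hz.trans e₂.symm)
  rw [map_mul, map_inv, map_mul, map_inv, eq_mul_inv_iff_mul_eq, mul_assoc,
    inv_mul_eq_iff_eq_mul] at e
  exact e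

theorem subsystem_product (h : IsTwoFactor F E₁ E₂ p) (hD : IsTwoFactor D X₁ X₂ p)
    (hX₁ : X₁.IsSubsystemOf E₁) (hX₂ : X₂.IsSubsystemOf E₂) : D.IsSubsystemOf F := by
  intro P φ hφ
  obtain ⟨P₁, P₂, φ₁, φ₂, h₁, h₂, hx⟩ := hD.decomp P φ hφ
  obtain ⟨ψ, hψ, hψa, hψb⟩ := h.glue P₁ P₂ φ₁ φ₂ (hX₁ _ h₁) (hX₂ _ h₂)
  have hle : P ≤ P₁ ⊔ P₂ := fun x hxP => by
    obtain ⟨a, b, hab, -⟩ := hx ⟨x, hxP⟩
    rw [show x = a * b from hab]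
    exact Subgroup.mul_mem_sup a.2 b.2
  refine mem_of_restrict hψ hle fun x => ?_
  obtain ⟨a, b, hab, hφab⟩ := hx x
  rw [hφab, show (⟨x, hle x.2⟩ : ↥(P₁ ⊔ P₂)) = Subgroup.inclusion le_sup_left a *
    Subgroup.inclusion le_sup_right b from Subtype.ext hab, map_mul, hψa, hψb]

theorem stronglyClosed_product [Fact p.Prime] [Finite S] (hS : IsPGroup p S)
    (h : IsTwoFactor F E₁ E₂ p) (hD : IsTwoFactor D X₁ X₂ p)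
    (hX₁ : E₁.StronglyClosed V₁) (hX₂ : E₂.StronglyClosed V₂) :
    F.StronglyClosed (V₁ ⊔ V₂) := by
  refine ⟨sup_le (hX₁.1.trans h.le_left) (hX₂.1.trans h.le_right), fun R hR φ hφ x => ?_⟩
  obtain ⟨R₁, R₂, φ₁, φ₂, h₁, h₂, hx⟩ := h.decomp R φ hφ
  obtain ⟨Ψ₁, hΨ₁, hΨ₁x, hΨ₁z⟩ := h.exists_ext hS h₁
  obtain ⟨Ψ₂, hΨ₂, hΨ₂x, hΨ₂z⟩ := h.symm.exists_ext hS h₂
  obtain ⟨a, b, hab, hφab⟩ := hx x
  obtain ⟨v, hv, w, hw, hvw⟩ := hD.dec x (hR x.2)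
  have haS := src_le h₁ a.2
  have hbS := src_le h₂ b.2
  have hz : (a : Ω)⁻¹ * v = b * w⁻¹ := by
    rw [eq_mul_inv_iff_mul_eq, mul_assoc, ← hvw, hab, inv_mul_cancel_left]
  have hzm : (a : Ω)⁻¹ * v ∈ S₁ ⊓ S₂ := ⟨S₁.mul_mem (S₁.inv_mem haS) (hX₁.1 hv),
    hz ▸ S₂.mul_mem hbS (S₂.inv_mem (hX₂.1 hw))⟩
  have hvA : v ∈ R₁ ⊔ (S₁ ⊓ S₂) := by
    rw [show v = a * ((a : Ω)⁻¹ * v) by rw [mul_inv_cancel_left]]
    exact Subgroup.mul_mem_sup a.2 hzm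
  have hwA : w ∈ R₂ ⊔ (S₂ ⊓ S₁) := by
    rw [show w = ((a : Ω)⁻¹ * v)⁻¹ * b by rw [hz, mul_inv_rev, inv_inv, inv_mul_cancel_right]]
    exact Subgroup.mul_mem _ (Subgroup.mem_sup_right
      (inf_comm S₁ S₂ ▸ Subgroup.inv_mem _ hzm)) (Subgroup.mem_sup_left b.2)
  rw [hφab, ← hΨ₁x a, ← hΨ₂x b, glued_eq Ψ₁ Ψ₂ (q₁ := ⟨v, hvA⟩) (q₂ := ⟨w, hwA⟩)
    (fun z hz => (congrArg Ψ₁ (Subtype.ext rfl)).trans (hΨ₁z ⟨z, hz⟩))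
    (fun z hz => (congrArg Ψ₂ (Subtype.ext rfl)).trans (hΨ₂z ⟨z, hz.2, hz.1⟩))
    (src_le hΨ₁) (src_le hΨ₂) (hab.symm.trans hvw)]
  exact Subgroup.mul_mem_sup (stronglyClosed_map hX₁ hΨ₁ _ hv) (stronglyClosed_map hX₂ hΨ₂ _ hw)

/-- The product of normal subsystems of the factors is normal. -/
theorem isNormalIn_product [Fact p.Prime] [Finite S] (hS : IsPGroup p S)
    (h : IsTwoFactor F E₁ E₂ p) (hD : IsTwoFactor D X₁ X₂ p)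
    (hX₁ : X₁.IsNormalIn E₁ p) (hX₂ : X₂.IsNormalIn E₂ p) : D.IsNormalIn F p := by
  have hS₁ := h.le_left
  have hS₂ := h.le_right
  haveI : Finite S₁ := finite_of_le hS₁
  haveI : Finite S₂ := finite_of_le hS₂
  have hc₁ := hX₁.1.2.2.2.1
  have hc₂ := hX₂.1.2.2.2.1
  have hsub := subsystem_product h hD hX₁.1.2.2.1 hX₂.1.2.2.1
  have hcl := stronglyClosed_product hS h hD hc₁ hc₂
  have hstr₁ := (S5119.result p (hS.to_le hS₁) E₁ h.sat₁ X₁ hX₁.1.2.2.1 hc₁).1 hX₁.1.2.2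
  have hstr₂ := (S5119.result p (hS.to_le hS₂) E₂ h.sat₂ X₂ hX₂.1.2.2.1 hc₂).1 hX₂.1.2.2
  refine ⟨⟨hD.sat, h.sat, (S5119.result p hS F h.sat D hsub hcl).2
    fun P Q hPQ hQU φ hφ hφQ ψ hψ => ?_⟩, fun α hα => ?_⟩
  · obtain ⟨Q₁, Q₂, ψ₁, ψ₂, hψ₁, hψ₂, hψx⟩ := h.decomp Q ψ hψ
    obtain ⟨Ψ₁, hΨ₁, hΨ₁x, hΨ₁z⟩ := h.exists_ext hS hψ₁
    obtain ⟨Ψ₂, hΨ₂, hΨ₂x, hΨ₂z⟩ := h.symm.exists_ext hS hψ₂
    obtain ⟨P₁, P₂, φ₁, φ₂, hφ₁, hφ₂, hφx⟩ := hD.decomp P φ hφ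
    let A₁ := Q₁ ⊔ (S₁ ⊓ S₂)
    let A₂ := Q₂ ⊔ (S₂ ⊓ S₁)
    have hin : ∀ (y a b : Ω), y ∈ Q → a ∈ S₁ → b ∈ S₂ → y = a * b →
        ∃ (ha : a ∈ A₁) (hb : b ∈ A₂) (hy : y ∈ Q), ψ ⟨y, hy⟩ = Ψ₁ ⟨a, ha⟩ * Ψ₂ ⟨b, hb⟩ := by
      intro y a b hy ha hb hab
      obtain ⟨q₁, q₂, hq, hψq⟩ := hψx ⟨y, hy⟩
      have hq' : y = q₁ * q₂ := hq
      have hz : (q₁ : Ω)⁻¹ * a = q₂ * b⁻¹ := by
        rw [eq_mul_inv_iff_mul_eq, mul_assoc, ← hab, hq', inv_mul_cancel_left]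
      have hzm : (q₁ : Ω)⁻¹ * a ∈ S₁ ⊓ S₂ := ⟨S₁.mul_mem (S₁.inv_mem (src_le hψ₁ q₁.2)) ha,
        hz ▸ S₂.mul_mem (src_le hψ₂ q₂.2) (S₂.inv_mem hb)⟩
      have haA : a ∈ A₁ := by
        rw [show a = q₁ * ((q₁ : Ω)⁻¹ * a) by rw [mul_inv_cancel_left]]
        exact Subgroup.mul_mem_sup q₁.2 hzm
      have hbA : b ∈ A₂ := by
        rw [show b = ((q₁ : Ω)⁻¹ * a)⁻¹ * q₂ by
          rw [hz, mul_inv_rev, inv_inv, inv_mul_cancel_right]]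
        exact Subgroup.mul_mem _ (Subgroup.mem_sup_right
          (inf_comm S₁ S₂ ▸ Subgroup.inv_mem _ hzm)) (Subgroup.mem_sup_left q₂.2)
      refine ⟨haA, hbA, hy, ?_⟩
      rw [hψq, ← hΨ₁x q₁, ← hΨ₂x q₂]
      exact (glued_eq Ψ₁ Ψ₂ (fun z hz => (congrArg Ψ₁ (Subtype.ext rfl)).trans (hΨ₁z ⟨z, hz⟩))
        (fun z hz => (congrArg Ψ₂ (Subtype.ext rfl)).trans (hΨ₂z ⟨z, hz.2, hz.1⟩))
        (src_le hΨ₁) (src_le hΨ₂) (hab.symm.trans hq')).symm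
    let R₁ := A₁ ⊓ V₁
    let R₂ := A₂ ⊓ V₂
    let P₁' := ((R₁.comap P₁.subtype) ⊓ (R₁.comap φ₁)).map P₁.subtype
    let P₂' := ((R₂.comap P₂.subtype) ⊓ (R₂.comap φ₂)).map P₂.subtype
    have hle₁ : P₁' ≤ P₁ := Subgroup.map_subtype_le _
    have hle₂ : P₂' ≤ P₂ := Subgroup.map_subtype_le _
    have hR₁' : P₁' ≤ R₁ := by rintro _ ⟨w, hw, rfl⟩; exact hw.1
    have hR₂' : P₂' ≤ R₂ := by rintro _ ⟨w, hw, rfl⟩; exact hw.1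
    obtain ⟨χ₁, hχ₁, hχ₁x⟩ := hstr₁ P₁' R₁ hR₁' inf_le_right _ (restrict_mem hφ₁ hle₁)
      (by rintro ⟨_, w, hw, rfl⟩; exact hw.2) _ (restrict_mem hΨ₁ (inf_le_left : R₁ ≤ A₁))
    obtain ⟨χ₂, hχ₂, hχ₂x⟩ := hstr₂ P₂' R₂ hR₂' inf_le_right _ (restrict_mem hφ₂ hle₂)
      (by rintro ⟨_, w, hw, rfl⟩; exact hw.2) _ (restrict_mem hΨ₂ (inf_le_left : R₂ ≤ A₂))
    obtain ⟨θ, hθ, hθ₁, hθ₂⟩ := hD.glue _ _ χ₁ χ₂ hχ₁ hχ₂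
    have key : ∀ x : P, ∃ w : ↥((P₁'.subgroupOf R₁).map (Ψ₁.comp (Subgroup.inclusion inf_le_left)) ⊔
        (P₂'.subgroupOf R₂).map (Ψ₂.comp (Subgroup.inclusion inf_le_left))),
        (w : Ω) = ψ (Subgroup.inclusion hPQ x) ∧ θ w = ψ ⟨φ x, hφQ x⟩ := by
      intro x
      obtain ⟨a, b, hab, hφab⟩ := hφx x
      obtain ⟨ha, hb, hyQ, hψab⟩ := hin x a b (hPQ x.2) (hc₁.1 (src_le hφ₁ a.2))
        (hc₂.1 (src_le hφ₂ b.2)) hab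
      obtain ⟨ha', hb', hyQ', hψab'⟩ := hin (φ x) (φ₁ a) (φ₂ b) (hφQ x)
        (hc₁.1 (val_mem hφ₁ a)) (hc₂.1 (val_mem hφ₂ b)) hφab
      have haP : (a : Ω) ∈ P₁' :=
        ⟨a, ⟨⟨ha, src_le hφ₁ a.2⟩, ⟨ha', val_mem hφ₁ a⟩⟩, rfl⟩
      have hbP : (b : Ω) ∈ P₂' :=
        ⟨b, ⟨⟨hb, src_le hφ₂ b.2⟩, ⟨hb', val_mem hφ₂ b⟩⟩, rfl⟩
      have i₁ : Ψ₁ ⟨a, ha⟩ ∈ (P₁'.subgroupOf R₁).map (Ψ₁.comp (Subgroup.inclusion inf_le_left)) :=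
        ⟨⟨a, hR₁' haP⟩, haP, rfl⟩
      have i₂ : Ψ₂ ⟨b, hb⟩ ∈ (P₂'.subgroupOf R₂).map (Ψ₂.comp (Subgroup.inclusion inf_le_left)) :=
        ⟨⟨b, hR₂' hbP⟩, hbP, rfl⟩
      refine ⟨Subgroup.inclusion le_sup_left ⟨_, i₁⟩ * Subgroup.inclusion le_sup_right ⟨_, i₂⟩,
        ?_, ?_⟩
      · exact hψab.symm
      · rw [map_mul, hθ₁, hθ₂]
        refine (congrArg₂ (· * ·) (hχ₁x ⟨a, haP⟩ i₁) (hχ₂x ⟨b, hbP⟩ i₂)).trans ?_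
        exact hψab'.symm
    refine ⟨_, restrict_mem hθ (?_ : (P.subgroupOf Q).map ψ ≤ _), fun x hx' => ?_⟩
    · rintro _ ⟨y, hy, rfl⟩
      obtain ⟨w, hw, -⟩ := key ⟨y, hy⟩
      rw [show ψ y = (w : Ω) from hw.symm]
      exact w.2
    · obtain ⟨w, hw, hθw⟩ := key x
      rw [← hθw]
      exact congrArg θ (Subtype.ext hw.symm)
  · have hV₁ := hc₁.1
    have hV₂ := hc₂.1
    haveI : Finite V₁ := finite_of_le hV₁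
    haveI : Finite V₂ := finite_of_le hV₂
    have hUS : V₁ ⊔ V₂ ≤ S := hcl.1
    obtain ⟨P₁, P₂, φ₁, φ₂, hφ₁, hφ₂, hφx⟩ := hD.decomp _ _ (autGroup_hom_mem le_rfl hα)
    haveI : Finite ↥(V₁ ⊔ V₂) := finite_of_le hUS
    obtain ⟨Φ₁, hΦ₁, hΦ₁x, hΦ₁z⟩ := hD.exists_ext (hS.to_le hUS) hφ₁
    obtain ⟨Φ₂, hΦ₂, hΦ₂x, hΦ₂z⟩ := hD.symm.exists_ext (hS.to_le hUS) hφ₂
    have hT₁ : V₁ ≤ P₁ ⊔ (V₁ ⊓ V₂) := by
      intro v hv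
      obtain ⟨a, b, hab, -⟩ := hφx ⟨v, Subgroup.mem_sup_left hv⟩
      have hab' : v = a * b := hab
      rw [hab']
      refine Subgroup.mul_mem_sup a.2 ⟨?_, src_le hφ₂ b.2⟩
      rw [show (b : Ω) = (a : Ω)⁻¹ * v by rw [hab', inv_mul_cancel_left]]
      exact V₁.mul_mem (V₁.inv_mem (src_le hφ₁ a.2)) hv
    have hT₂ : V₂ ≤ P₂ ⊔ (V₂ ⊓ V₁) := by
      intro v hv
      obtain ⟨a, b, hab, -⟩ := hφx ⟨v, Subgroup.mem_sup_right hv⟩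
      have hab' : v = a * b := hab
      rw [hab']
      refine Subgroup.mul_mem _ (Subgroup.mem_sup_right ⟨?_, src_le hφ₁ a.2⟩)
        (Subgroup.mem_sup_left b.2)
      rw [show (a : Ω) = v * (b : Ω)⁻¹ by rw [hab', mul_inv_cancel_right]]
      exact V₂.mul_mem hv (V₂.inv_mem (src_le hφ₂ b.2))
    obtain ⟨a₁, ha₁, ha₁x⟩ := exists_aut_of_hom (restrict_mem hΦ₁ hT₁) fun x => val_mem hΦ₁ _
    obtain ⟨a₂, ha₂, ha₂x⟩ := exists_aut_of_hom (restrict_mem hΦ₂ hT₂) fun x => val_mem hΦ₂ _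
    obtain ⟨β₁, hβ₁, hβ₁T, hβ₁c⟩ := hX₁.2 a₁ ha₁
    obtain ⟨β₂, hβ₂, hβ₂T, hβ₂c⟩ := hX₂.2 a₂ ha₂
    let W₁ := V₁ ⊔ centralizerIn S₁ V₁
    let W₂ := V₂ ⊔ centralizerIn S₂ V₂
    obtain ⟨ψ, hψ, hψa, hψb⟩ := h.glue W₁ W₂ _ _
      (autGroup_hom_mem (sup_le hV₁ inf_le_left) hβ₁)
      (autGroup_hom_mem (sup_le hV₂ inf_le_left) hβ₂)
    have hsplit : ∀ c ∈ centralizerIn S (V₁ ⊔ V₂), ∃ a ∈ centralizerIn S₁ V₁,
        ∃ b ∈ centralizerIn S₂ V₂, c = a * b := by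
      intro c hc
      obtain ⟨a, ha, b, hb, rfl⟩ := h.dec c hc.1
      refine ⟨a, ⟨ha, fun v hv => ?_⟩, b, ⟨hb, fun v hv => ?_⟩, rfl⟩
      · have h1 := hc.2 v (Subgroup.mem_sup_left hv)
        rw [← mul_assoc, mul_assoc a b v, ← h.comm v (hV₁ hv) b hb, ← mul_assoc] at h1
        exact mul_right_cancel h1
      · have h1 := hc.2 v (Subgroup.mem_sup_right hv)
        rw [← mul_assoc, ← h.comm a ha v (hV₂ hv), mul_assoc, mul_assoc] at h1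
        exact mul_left_cancel h1
    have hle : V₁ ⊔ V₂ ⊔ centralizerIn S (V₁ ⊔ V₂) ≤ W₁ ⊔ W₂ := by
      refine sup_le (sup_le (le_sup_left.trans le_sup_left) (le_sup_left.trans le_sup_right))
        fun c hc => ?_
      obtain ⟨a, ha, b, hb, rfl⟩ := hsplit c hc
      exact Subgroup.mul_mem_sup (Subgroup.mem_sup_right ha) (Subgroup.mem_sup_right hb)
    have hV : V₁ ⊔ V₂ ⊔ centralizerIn S (V₁ ⊔ V₂) ≤ S := sup_le hUS inf_le_left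
    haveI : Finite ↥(V₁ ⊔ V₂ ⊔ centralizerIn S (V₁ ⊔ V₂)) := finite_of_le hV
    have hag : ∀ x : ↥(V₁ ⊔ V₂),
        ψ.comp (Subgroup.inclusion hle) (Subgroup.inclusion le_sup_left x) = α x := by
      intro x
      obtain ⟨a, b, hab, hφab⟩ := hφx x
      have haV : (a : Ω) ∈ V₁ := src_le hφ₁ a.2
      have hbV : (b : Ω) ∈ V₂ := src_le hφ₂ b.2
      refine Eq.trans ?_ hφab.symm
      show ψ _ = _
      rw [show Subgroup.inclusion hle (Subgroup.inclusion le_sup_left x) =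
        Subgroup.inclusion le_sup_left (Subgroup.inclusion le_sup_left (⟨a, haV⟩ : V₁) : W₁) *
          Subgroup.inclusion le_sup_right (Subgroup.inclusion le_sup_left (⟨b, hbV⟩ : V₂) : W₂)
        from Subtype.ext hab, map_mul, hψa, hψb]
      show (β₁ _ : Ω) * (β₂ _ : Ω) = _
      rw [hβ₁T, hβ₂T, ha₁x, ha₂x]
      exact congrArg₂ (· * ·) ((congrArg Φ₁ (Subtype.ext rfl)).trans (hΦ₁x a))
        ((congrArg Φ₂ (Subtype.ext rfl)).trans (hΦ₂x b))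
    have hd : ∀ (c : ↥(V₁ ⊔ V₂ ⊔ centralizerIn S (V₁ ⊔ V₂))),
        (c : Ω) ∈ centralizerIn S (V₁ ⊔ V₂) → (c : Ω)⁻¹ * ψ (Subgroup.inclusion hle c) ∈
          (V₁ ⊔ V₂) ⊓ Subgroup.centralizer ((V₁ ⊔ V₂ : Subgroup Ω) : Set Ω) := by
      intro c hc
      obtain ⟨a, ha, b, hb, hab⟩ := hsplit c hc
      let a' : W₁ := ⟨a, Subgroup.mem_sup_right ha⟩
      let b' : W₂ := ⟨b, Subgroup.mem_sup_right hb⟩
      have hu := hβ₁c a' ha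
      have hv := hβ₂c b' hb
      have hbu : ∀ u ∈ V₁, b * u = u * b := fun u hu' => (h.comm u (hV₁ hu') b hb.1).symm
      have e : (c : Ω)⁻¹ * ψ (Subgroup.inclusion hle c) =
          (a⁻¹ * (β₁ a' : Ω)) * (b⁻¹ * (β₂ b' : Ω)) := by
        rw [show Subgroup.inclusion hle c = Subgroup.inclusion le_sup_left a' *
          Subgroup.inclusion le_sup_right b' from Subtype.ext hab, map_mul, hψa, hψb, hab,
          mul_inv_rev]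
        show b⁻¹ * a⁻¹ * ((β₁ a' : Ω) * (β₂ b' : Ω)) = _
        calc b⁻¹ * a⁻¹ * ((β₁ a' : Ω) * (β₂ b' : Ω))
            = b⁻¹ * (a⁻¹ * (β₁ a' : Ω)) * b * (b⁻¹ * (β₂ b' : Ω)) := by group
          _ = b⁻¹ * ((a⁻¹ * (β₁ a' : Ω)) * b) * (b⁻¹ * (β₂ b' : Ω)) := by group
          _ = (a⁻¹ * (β₁ a' : Ω)) * (b⁻¹ * (β₂ b' : Ω)) := by
            rw [← hbu _ hu.1, inv_mul_cancel_left]
      rw [e]
      refine Subgroup.mul_mem _ ⟨Subgroup.mem_sup_left hu.1, ?_⟩ ⟨Subgroup.mem_sup_right hv.1, ?_⟩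
      · have hle' : V₁ ⊔ V₂ ≤ Subgroup.centralizer {a⁻¹ * (β₁ a' : Ω)} := sup_le
          (fun v hv' => Subgroup.mem_centralizer_singleton_iff.2 (hu.2 v hv'))
          (fun v hv' => Subgroup.mem_centralizer_singleton_iff.2
            (h.comm _ (hV₁ hu.1) v (hV₂ hv')).symm)
        exact fun v hv' => Subgroup.mem_centralizer_singleton_iff.1 (hle' hv')
      · have hle' : V₁ ⊔ V₂ ≤ Subgroup.centralizer {b⁻¹ * (β₂ b' : Ω)} := sup_le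
          (fun v hv' => Subgroup.mem_centralizer_singleton_iff.2
            (h.comm v (hV₁ hv') _ (hV₂ hv.1)))
          (fun v hv' => Subgroup.mem_centralizer_singleton_iff.2 (hv.2 v hv'))
        exact fun v hv' => Subgroup.mem_centralizer_singleton_iff.1 (hle' hv')
    obtain ⟨β, hβ, hβx⟩ := exists_aut_of_hom (restrict_mem hψ hle) (hom_sup_mem _
      (fun x => Subgroup.mem_sup_left (by rw [hag]; exact (α x).2))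
      (fun c => by
        have h2 := Subgroup.mul_mem _ (Subgroup.mem_sup_right (S := V₁ ⊔ V₂) c.2)
          (Subgroup.mem_sup_left (T := centralizerIn S (V₁ ⊔ V₂))
            (hd (Subgroup.inclusion le_sup_right c) c.2).1)
        simp only [Subgroup.coe_inclusion, mul_inv_cancel_left] at h2
        exact h2))
    refine ⟨β, hβ, fun x => (hβx _).trans (hag x), fun c hc => ?_⟩
    rw [hβx]
    exact hd c hc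

end Cfsg.Agent.Lib.Fusion.TwoFactor
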