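/-
A factor of a quasisimple two-factor system is central or everything.
-/
import Cfsg.Agent.Lib.Fusion.TwoFactor.Basic

set_option autoImplicit false

namespace Cfsg.Agent.Lib.Fusion.TwoFactor

open Cfsg Cfsg.FusionSystem
open Cfsg.Agent.Lib.FusionFactor (exists_factorSystem mem_preimageAlong preimageAlong_le isCentral_center)

universe u

variable {Ω : Type u} [Group Ω] {S S₁ S₂ : Subgroup Ω} {p : ℕ}

/-- A saturated subsystem containing every map of `F` on its subgroups is weakly normal. -/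
theorem isWeaklyNormalIn_of_full [Fact p.Prime] [Finite S] (hS : IsPGroup p S)
    {F : FusionSystem S} {T : Subgroup Ω} {E : FusionSystem T} (hE : E.IsSaturated p)
    (hF : F.IsSaturated p) (hsub : E.IsSubsystemOf F) (hT : F.StronglyClosed T)
    (hfull : ∀ (P : Subgroup Ω) (φ : P →* Ω), P ≤ T → φ ∈ F.Hom P → φ ∈ E.Hom P) :
    E.IsWeaklyNormalIn F p := by
  refine ⟨hE, hF, (S5119.result p hS F hF E hsub hT).2
    fun P Q hPQ hQ φ hφ hφQ ψ hψ => ?_⟩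
  have hψ' := hfull Q ψ hQ hψ
  obtain ⟨τ, hτ, hτr, hτx, -⟩ := exists_inverse (restrict_mem hψ' hPQ) rfl
  obtain ⟨μ, hμ, hμx⟩ := exists_comp hτ hφ fun y => hτr.le ⟨y, rfl⟩
  obtain ⟨χ, hχ, hχx⟩ := exists_comp hμ hψ' fun y => by rw [hμx]; exact hφQ _
  have hle : (P.subgroupOf Q).map ψ ≤ (ψ.comp (Subgroup.inclusion hPQ)).range := by
    rintro _ ⟨y, hy, rfl⟩
    exact ⟨⟨y, hy⟩, congrArg ψ (Subtype.ext rfl)⟩
  refine ⟨_, restrict_mem hχ hle, fun x hx => ?_⟩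
  show χ _ = _
  rw [hχx]
  refine congrArg ψ (Subtype.ext ?_)
  refine (hμx _).trans ?_
  exact congrArg φ (Subtype.ext (hτx x _))

variable {F : FusionSystem S} {E₁ : FusionSystem S₁} {E₂ : FusionSystem S₂}

/-- In a quasisimple two-factor system a factor is central or everything. -/
theorem le_left_or_le_center [Fact p.Prime] [Finite S] (hS : IsPGroup p S)
    (hq : F.Quasisimple p) (h : IsTwoFactor F E₁ E₂ p) : S ≤ S₁ ∨ S₁ ≤ F.center := by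
  obtain ⟨hF, hhyp, hsimple⟩ := hq
  have hS₁ := h.le_left
  haveI : Finite S₁ := finite_of_le hS₁
  set Z := F.center with hZdef
  have hZ : F.IsCentral Z := isCentral_center F
  have hZsc := stronglyClosed_of_isCentral' hZ
  set θ := QuotientGroup.mk' (Z.subgroupOf S) with hθ
  have hker : ∀ s : S, θ s = 1 ↔ (s : Ω) ∈ Z := fun s => QuotientGroup.eq_one_iff s
  have hrange : θ.range = (⊤ : Subgroup (S ⧸ Z.subgroupOf S)) :=
    MonoidHom.range_eq_top.2 (QuotientGroup.mk'_surjective _)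
  obtain ⟨E, hE⟩ := exists_factorSystem θ F hZsc hker hrange
  have hEs := hsimple E hE
  have hp' : IsPGroup p (⊤ : Subgroup (S ⧸ Z.subgroupOf S)) := (hS.to_quotient _).to_subgroup _
  haveI : Finite (⊤ : Subgroup (S ⧸ Z.subgroupOf S)) := inferInstance
  have hsurj := isSurjectiveMorphism_of_isFactorSystem hS hF hZsc hE
  set θ₁ := θ.comp (Subgroup.inclusion hS₁) with hθ₁
  have hker₁ : ∀ s : S₁, θ₁ s = 1 ↔ (s : Ω) ∈ Z ⊓ S₁ := fun s =>
    ⟨fun hs => ⟨(hker _).1 hs, s.2⟩, fun hs => (hker _).2 hs.1⟩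
  have hZsc₁ : E₁.StronglyClosed (Z ⊓ S₁) :=
    stronglyClosed_of_subsystem h.subsystem (stronglyClosed_inf_of hZsc (h.stronglyClosed hS))
      inf_le_right
  obtain ⟨N, hN⟩ := exists_factorSystem θ₁ E₁ hZsc₁ hker₁ rfl
  have hNs := isSaturated_of_isFactorSystem (hS.to_le hS₁) h.sat₁ hZsc₁ hN
  have hpre : ∀ {P' : Subgroup (S ⧸ Z.subgroupOf S)}, P' ≤ θ₁.range →
      ∀ x : preimageAlong θ P', ∃ (s : preimageAlong θ₁ P') (z : Z), (x : Ω) = s * z := by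
    intro P' hP' x
    obtain ⟨hxS, hxP⟩ := (mem_preimageAlong θ).1 x.2
    obtain ⟨s, hs⟩ := hP' hxP
    have hz : (s : Ω)⁻¹ * x ∈ Z := (hker ((Subgroup.inclusion hS₁ s)⁻¹ * (⟨(x : Ω), hxS⟩ : S))).1 (by
      rw [map_mul, map_inv]
      exact inv_mul_eq_one.2 hs)
    exact ⟨⟨s, (mem_preimageAlong θ₁).2 ⟨s.2, hs.symm ▸ hxP⟩⟩, ⟨_, hz⟩,
      (mul_inv_cancel_left _ _).symm⟩
  have hsub : N.IsSubsystemOf E := by
    intro P' φ' hφ'
    obtain ⟨hle, φ, hφ, h1, h2, h3, hind⟩ := (hN.2.2.2 P' φ').1 hφ'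
    obtain ⟨ψ, hψ, hψP, hψZ⟩ := hZ.2 _ φ (h.subsystem _ hφ)
    have hle' : preimageAlong θ P' ≤ preimageAlong θ₁ P' ⊔ Z := fun x hx => by
      obtain ⟨s, z, hsz⟩ := hpre hle ⟨x, hx⟩
      rw [show x = s * z from hsz]
      exact Subgroup.mul_mem_sup s.2 z.2
    refine (hE.2.2.2 P' φ').2 ⟨le_top, _, restrict_mem hψ hle', preimageAlong_le θ P',
      fun x => val_mem hψ _, fun x => ((mem_preimageAlong θ).1 x.2).2, fun x => ?_⟩
    obtain ⟨s, z, hsz⟩ := hpre hle x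
    have e1 : θ ⟨x, preimageAlong_le θ P' x.2⟩ = θ₁ ⟨s, h1 s.2⟩ := by
      rw [show (⟨x, preimageAlong_le θ P' x.2⟩ : S) =
        Subgroup.inclusion hS₁ ⟨s, h1 s.2⟩ * ⟨z, hZ.1 z.2⟩ from Subtype.ext hsz, map_mul,
        (hker ⟨(z : Ω), hZ.1 z.2⟩).2 z.2, mul_one]
      rfl
    have e2 : ψ (Subgroup.inclusion hle' x) = φ s * z := by
      rw [show Subgroup.inclusion hle' x = Subgroup.inclusion le_sup_left s *
        Subgroup.inclusion le_sup_right z from Subtype.ext hsz, map_mul, hψP, hψZ]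
    refine Eq.trans (congrArg φ' (Subtype.ext e1)) ((hind s).trans ?_)
    rw [show (⟨ψ.comp (Subgroup.inclusion hle') x, val_mem hψ _⟩ : S) =
      Subgroup.inclusion hS₁ ⟨φ s, h2 s⟩ * ⟨z, hZ.1 z.2⟩ from Subtype.ext e2, map_mul,
      (hker ⟨(z : Ω), hZ.1 z.2⟩).2 z.2, mul_one]
    rfl
  have hfull : ∀ (P' : Subgroup (S ⧸ Z.subgroupOf S)) (φ' : P' →* S ⧸ Z.subgroupOf S),
      P' ≤ θ₁.range → φ' ∈ E.Hom P' → φ' ∈ N.Hom P' := by
    intro P' φ' hP' hφ'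
    obtain ⟨-, φ, hφ, h1, h2, h3, hind⟩ := (hE.2.2.2 P' φ').1 hφ'
    have hle : preimageAlong θ₁ P' ≤ preimageAlong θ P' := by
      rintro x hx
      obtain ⟨hx1, hx2⟩ := (mem_preimageAlong θ₁).1 hx
      exact (mem_preimageAlong θ).2 ⟨hS₁ hx1, hx2⟩
    have hm := h.full hS (preimageAlong_le θ₁ P') (restrict_mem hφ hle)
    refine (hN.2.2.2 P' φ').2 ⟨hP', _, hm, preimageAlong_le θ₁ P', val_mem hm,
      fun x => ((mem_preimageAlong θ₁).1 x.2).2, fun x => ?_⟩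
    exact hind (Subgroup.inclusion hle x)
  have hclR : E.StronglyClosed θ₁.range := by
    refine ⟨le_top, fun R hR φ hφ x => val_mem (hfull R φ hR hφ) x⟩
  have hW : N.IsWeaklyNormalIn E p :=
    isWeaklyNormalIn_of_full hp' hNs hEs.1 hsub hclR hfull
  have hNn : N.IsNormalIn E p := by
    refine ⟨hW, fun α hα => ?_⟩
    obtain ⟨-, a, ha, a1, a2, a3, haind⟩ :=
      (hN.2.2.2 _ _).1 (autGroup_hom_mem le_rfl hα)
    have hS₁pre : S₁ ≤ preimageAlong θ₁ θ₁.range := fun x hx =>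
      (mem_preimageAlong θ₁).2 ⟨hx, ⟨x, hx⟩, rfl⟩
    obtain ⟨ψ, hψ, hψa, hψb⟩ := h.glue _ _ _ S₂.subtype (restrict_mem ha hS₁pre)
      (subtype_mem le_rfl)
    obtain ⟨ψ', hψ', k1, k2, k3, hj⟩ := hsurj.1.2 _ ψ hψ
    have hall : θ₁.range ⊔ centralizerIn ⊤ θ₁.range ≤ imageAlong θ (S₁ ⊔ S₂) := by
      intro y _
      obtain ⟨x, rfl⟩ := QuotientGroup.mk'_surjective _ y
      exact ⟨x, h.top.ge x.2, rfl⟩
    haveI : Finite ↥(θ₁.range ⊔ centralizerIn ⊤ θ₁.range) := inferInstance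
    have hR : ∀ (y : S ⧸ Z.subgroupOf S) (hy : y ∈ imageAlong θ (S₁ ⊔ S₂)) (hy' : y ∈ θ₁.range),
        ψ' ⟨y, hy⟩ = (α ⟨y, hy'⟩ : S ⧸ Z.subgroupOf S) := by
      intro y hy hy'
      obtain ⟨s, hs⟩ := id hy'
      have e := hj (Subgroup.inclusion le_sup_left s)
      refine Eq.trans (Eq.trans (congrArg ψ' (Subtype.ext hs.symm)) e) ?_
      refine Eq.trans ?_ ((haind (Subgroup.inclusion hS₁pre s)).symm.trans
        (congrArg (fun w : θ₁.range => (α w : S ⧸ Z.subgroupOf S)) (Subtype.ext hs)))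
      exact congrArg θ (Subtype.ext (hψa s))
    have key : ∀ (c : S ⧸ Z.subgroupOf S) (hc : c ∈ imageAlong θ (S₁ ⊔ S₂)),
        c ∈ Subgroup.centralizer (θ₁.range : Set (S ⧸ Z.subgroupOf S)) →
        c⁻¹ * ψ' ⟨c, hc⟩ ∈ θ₁.range ⊓ Subgroup.centralizer (θ₁.range : Set (S ⧸ Z.subgroupOf S)) := by
      intro c hc hcC
      obtain ⟨x, hx, rfl⟩ := id hc
      obtain ⟨s, hs, b, hb, hab⟩ := h.dec x x.2
      set u := θ₁ ⟨s, hs⟩ with hu
      set v := θ ⟨b, h.le_right hb⟩ with hv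
      have hxuv : θ x = u * v := by
        rw [show x = Subgroup.inclusion hS₁ ⟨s, hs⟩ * ⟨b, h.le_right hb⟩ from Subtype.ext hab,
          map_mul]
        rfl
      have hvC : v ∈ Subgroup.centralizer (θ₁.range : Set (S ⧸ Z.subgroupOf S)) := by
        rintro _ ⟨t, rfl⟩
        show θ _ * θ _ = θ _ * θ _
        rw [← map_mul, ← map_mul]
        exact congrArg θ (Subtype.ext (h.comm t t.2 b hb))
      have huR : u ∈ θ₁.range := ⟨_, rfl⟩
      have huC : u ∈ Subgroup.centralizer (θ₁.range : Set (S ⧸ Z.subgroupOf S)) := by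
        rw [show u = θ x * v⁻¹ by rw [hxuv, mul_inv_cancel_right]]
        exact Subgroup.mul_mem _ hcC (Subgroup.inv_mem _ hvC)
      have hαC : (α ⟨u, huR⟩ : S ⧸ Z.subgroupOf S) ∈
          Subgroup.centralizer (θ₁.range : Set (S ⧸ Z.subgroupOf S)) := by
        intro t ht
        obtain ⟨w, hw⟩ := α.surjective ⟨t, ht⟩
        rw [show t = (α w : S ⧸ Z.subgroupOf S) from congrArg Subtype.val hw.symm,
          ← Subgroup.coe_mul, ← Subgroup.coe_mul, ← map_mul, ← map_mul]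
        exact congrArg (fun r : θ₁.range => (α r : S ⧸ Z.subgroupOf S)) (Subtype.ext (huC w w.2))
      have hum : u ∈ imageAlong θ (S₁ ⊔ S₂) :=
        ⟨Subgroup.inclusion hS₁ ⟨s, hs⟩, Subgroup.mem_sup_left (T := S₂) hs, rfl⟩
      have hvm : v ∈ imageAlong θ (S₁ ⊔ S₂) :=
        ⟨⟨b, h.le_right hb⟩, Subgroup.mem_sup_right (S := S₁) hb, rfl⟩
      have hψv : ψ' ⟨v, hvm⟩ = v :=
        (hj (Subgroup.inclusion le_sup_right ⟨b, hb⟩)).trans
          (congrArg θ (Subtype.ext (hψb ⟨b, hb⟩)))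
      have e : ψ' ⟨θ x, hc⟩ = (α ⟨u, huR⟩ : S ⧸ Z.subgroupOf S) * v := by
        rw [show (⟨θ x, hc⟩ : imageAlong θ (S₁ ⊔ S₂)) = ⟨u, hum⟩ * ⟨v, hvm⟩ from
          Subtype.ext hxuv, map_mul, hR u hum huR, hψv]
      set w := (α ⟨u, huR⟩ : S ⧸ Z.subgroupOf S) with hw
      have hwR : w ∈ θ₁.range := SetLike.coe_mem _
      have e2 : (θ x)⁻¹ * ψ' ⟨θ x, hc⟩ = u⁻¹ * w := by
        rw [e, hxuv, mul_inv_rev]
        calc v⁻¹ * u⁻¹ * (w * v) = v⁻¹ * (u⁻¹ * w * v) := by group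
          _ = v⁻¹ * (v * (u⁻¹ * w)) := by
            rw [hvC _ (θ₁.range.mul_mem (θ₁.range.inv_mem huR) hwR)]
          _ = u⁻¹ * w := by group
      rw [e2]
      exact ⟨θ₁.range.mul_mem (θ₁.range.inv_mem huR) hwR,
        Subgroup.mul_mem _ (Subgroup.inv_mem _ huC) hαC⟩
    obtain ⟨β, hβ, hβx⟩ := exists_aut_of_hom (restrict_mem hψ' hall) (hom_sup_mem _
      (fun x => Subgroup.mem_sup_left (by
        exact (congrArg (· ∈ θ₁.range) (hR (x : S ⧸ Z.subgroupOf S)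
          (hall (Subgroup.mem_sup_left x.2)) x.2)).mpr (SetLike.coe_mem _)))
      (fun c => by
        have h1 := key c (hall (Subgroup.mem_sup_right c.2)) c.2.2
        have h2 := Subgroup.mul_mem _ (Subgroup.mem_sup_right (S := θ₁.range) c.2)
          (Subgroup.mem_sup_left (T := centralizerIn ⊤ θ₁.range) h1.1)
        rwa [mul_inv_cancel_left] at h2))
    refine ⟨β, hβ, fun x => ?_, fun c hc => ?_⟩
    · rw [hβx]
      exact hR x _ x.2
    · rw [hβx]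
      exact key c (hall c.2) hc.2
  rcases hEs.2.2 _ N hNn with hb | ⟨ht, -⟩
  · refine Or.inr fun x hx => (hker (⟨x, hS₁ hx⟩ : S)).1 ?_
    exact Subgroup.mem_bot.1 (hb.le ⟨⟨x, hx⟩, rfl⟩)
  refine Or.inl (hhyp.ge.trans ((Subgroup.closure_le _).2 ?_))
  rintro _ ⟨P, α, x, hP, hα, rfl⟩
  obtain ⟨ψ, hψ, hψP, hψZ⟩ := hZ.2 P _ (autGroup_hom_mem hP α.2)
  obtain ⟨s, hs⟩ := ht.ge (Subgroup.mem_top (θ ⟨x, hP x.2⟩))
  have hz : (s : Ω)⁻¹ * x ∈ Z := (hker ((Subgroup.inclusion hS₁ s)⁻¹ * (⟨(x : Ω), hP x.2⟩ : S))).1 (by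
    rw [map_mul, map_inv]
    exact inv_mul_eq_one.2 hs)
  set z : Z := ⟨_, hz⟩ with hzdef
  have hsm : (s : Ω) ∈ P ⊔ Z := by
    rw [show (s : Ω) = x * ((s : Ω)⁻¹ * x)⁻¹ by rw [mul_inv_rev, inv_inv, mul_inv_cancel_left]]
    exact Subgroup.mul_mem_sup x.2 (Z.inv_mem hz)
  have hm := stronglyClosed_map (h.stronglyClosed hS) hψ ⟨s, hsm⟩ s.2
  have e : ((α : MulAut P) x : Ω) = ψ ⟨s, hsm⟩ * z := by
    rw [show ((α : MulAut P) x : Ω) = ψ (Subgroup.inclusion le_sup_left x) from (hψP x).symm,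
      show Subgroup.inclusion (le_sup_left : P ≤ P ⊔ Z) x = ⟨s, hsm⟩ *
        Subgroup.inclusion le_sup_right z from Subtype.ext (mul_inv_cancel_left (s : Ω) x).symm,
      map_mul, hψZ]
  show (x : Ω)⁻¹ * ((α : MulAut P) x : Ω) ∈ S₁
  rw [e, show (x : Ω) = s * z from (mul_inv_cancel_left (s : Ω) x).symm]
  have hcz : ∀ y ∈ S, y * (z : Ω) = z * y := fun y hy => F.center_le_centralizer z.2 y hy
  have hys : (s : Ω)⁻¹ * ψ ⟨s, hsm⟩ ∈ S₁ := S₁.mul_mem (S₁.inv_mem s.2) hm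
  rw [show ((s : Ω) * z)⁻¹ * (ψ ⟨s, hsm⟩ * z) = (z : Ω)⁻¹ * ((s : Ω)⁻¹ * ψ ⟨s, hsm⟩ * z) by group,
    hcz _ (hS₁ hys), inv_mul_cancel_left]
  exact hys

end Cfsg.Agent.Lib.Fusion.TwoFactor
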