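/-
A component of a two-factor system is a component of one of the factors.
-/
import Cfsg.Agent.Lib.Fusion.TwoFactor.Product
import Cfsg.Agent.Lib.Fusion.TwoFactor.Quotient

set_option autoImplicit false
set_option linter.style.haveILetI false

namespace Cfsg.Agent.Lib.Fusion.TwoFactor

open Cfsg Cfsg.FusionSystem
open Cfsg.Agent.Lib.FusionFactor (isCentral_center)

universe u

variable {Ω : Type u} [Group Ω] {S S₁ S₂ : Subgroup Ω} {p : ℕ}

/-- A quasisimple subnormal system is subnormal in every normal subsystem over a larger group. -/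
theorem subnormal_in_normal {T S : Subgroup Ω} {C : FusionSystem T} {F : FusionSystem S}
    (h : C.IsSubnormalIn F p) : p.Prime → IsPGroup p S → Finite S → C.Quasisimple p →
    ∀ (U : Subgroup Ω) (D : FusionSystem U), D.IsNormalIn F p → T ≤ U → C.IsSubnormalIn D p := by
  induction h with
  | refl F p =>
    intro hp hS hfin hq U D hD hTU
    haveI : Fact p.Prime := ⟨hp⟩
    obtain rfl := le_antisymm hD.1.2.2.2.1.1 hTU
    obtain rfl : D = F := hom_ext fun P => Set.Subset.antisymm (hD.1.2.2.1 P)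
      (LayerExists.component_le_of_le hS ⟨IsSubnormalIn.refl F p, hq⟩ hD le_rfl P)
    exact IsSubnormalIn.refl _ _
  | @step W S C X F p hCX hX ih =>
    intro hp hS hfin hq U D hD hTU
    haveI : Fact p.Prime := ⟨hp⟩
    have hWS : W ≤ S := hX.1.2.2.2.1.1
    have hUS : U ≤ S := hD.1.2.2.2.1.1
    haveI : Finite W := finite_of_le hWS
    haveI : Finite U := finite_of_le hUS
    obtain ⟨hW₁, hW₂⟩ := Wedge.isWeaklyNormalIn_wedge_sub hS hX hD
    have h1 := ih hp (hS.to_le hWS) inferInstance hq _ _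
      (isNormalIn_pPrimeResidualSystem (hS.to_le hWS) hW₁)
      (le_inf (Components.le_of_subnormal hCX) hTU)
    exact IsSubnormalIn.step h1 (isNormalIn_pPrimeResidualSystem (hS.to_le hUS) hW₂)

theorem component_in_normal [Fact p.Prime] [Finite S] (hS : IsPGroup p S) {F : FusionSystem S}
    {T U : Subgroup Ω} {C : FusionSystem T} {D : FusionSystem U} (hC : C.IsComponentIn F p)
    (hD : D.IsNormalIn F p) (hTU : T ≤ U) : C.IsComponentIn D p :=
  ⟨subnormal_in_normal hC.1 Fact.out hS inferInstance hC.2 U D hD hTU, hC.2⟩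

theorem subnormal_trans {T U V : Subgroup Ω} {C : FusionSystem T} {D : FusionSystem U}
    {F : FusionSystem V} (h₁ : C.IsSubnormalIn D p) (h₂ : D.IsNormalIn F p) :
    C.IsSubnormalIn F p := IsSubnormalIn.step h₁ h₂

variable {F : FusionSystem S} {E₁ : FusionSystem S₁} {E₂ : FusionSystem S₂}

/-- The hyperfocal displacement lies in the two intersections. -/
theorem hyperfocal_le [Fact p.Prime] [Finite S] (hS : IsPGroup p S)
    (h : IsTwoFactor F E₁ E₂ p) {T V : Subgroup Ω} {C : FusionSystem T}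
    (hC : C.IsSubsystemOf F) (hhyp : C.hyperfocalSubgroup p = T) (hTV : T ≤ V)
    (hV : F.StronglyClosed V) : T ≤ (V ⊓ S₁) ⊔ (V ⊓ S₂) := by
  refine hhyp.ge.trans ((Subgroup.closure_le _).2 ?_)
  rintro _ ⟨P, α, x, hP, -, rfl⟩
  obtain ⟨P₁, P₂, φ₁, φ₂, h₁, h₂, hx⟩ := h.decomp P _ (hC P (autGroup_hom_mem hP α.2))
  obtain ⟨a, b, hab, hαab⟩ := hx x
  have haS := src_le h₁ a.2
  have hbS := src_le h₂ b.2
  have hxV : (x : Ω) ∈ V := hTV (hP x.2)
  obtain ⟨ψ, hψ, hψa, hψb⟩ := h.glue P₁ P₂ φ₁ P₂.subtype h₁ (subtype_mem (src_le h₂))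
  obtain ⟨χ, hχ, hχa, hχb⟩ := h.glue P₁ P₂ P₁.subtype φ₂ (subtype_mem (src_le h₁)) h₂
  have hxm : (x : Ω) ∈ P₁ ⊔ P₂ := by rw [hab]; exact Subgroup.mul_mem_sup a.2 b.2
  have hxe : (⟨x, hxm⟩ : ↥(P₁ ⊔ P₂)) = Subgroup.inclusion le_sup_left a *
      Subgroup.inclusion le_sup_right b := Subtype.ext hab
  have m₁ : (a : Ω)⁻¹ * φ₁ a ∈ V := by
    have h3 := V.mul_mem (V.inv_mem hxV) (stronglyClosed_map hV hψ ⟨x, hxm⟩ hxV)
    rw [hxe, map_mul, hψa, hψb, hab] at h3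
    rw [show ((a : Ω) * b)⁻¹ * (φ₁ a * P₂.subtype b) = (b : Ω)⁻¹ * ((a : Ω)⁻¹ * φ₁ a * b) by
      simp only [Subgroup.subtype_apply]; group,
      h.comm _ (S₁.mul_mem (S₁.inv_mem haS) (val_mem h₁ a)) _ hbS, inv_mul_cancel_left] at h3
    exact h3
  have m₂ : (b : Ω)⁻¹ * φ₂ b ∈ V := by
    have h3 := V.mul_mem (V.inv_mem hxV) (stronglyClosed_map hV hχ ⟨x, hxm⟩ hxV)
    rw [hxe, map_mul, hχa, hχb, hab] at h3
    rwa [show ((a : Ω) * b)⁻¹ * (P₁.subtype a * φ₂ b) = (b : Ω)⁻¹ * φ₂ b by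
      simp only [Subgroup.subtype_apply]; group] at h3
  have e : (x : Ω)⁻¹ * ((α : MulAut P) x : Ω) = ((a : Ω)⁻¹ * φ₁ a) * ((b : Ω)⁻¹ * φ₂ b) := by
    rw [show ((α : MulAut P) x : Ω) = φ₁ a * φ₂ b from hαab, hab]
    calc ((a : Ω) * b)⁻¹ * (φ₁ a * φ₂ b)
        = (b : Ω)⁻¹ * ((a : Ω)⁻¹ * φ₁ a * φ₂ b) := by group
      _ = (b : Ω)⁻¹ * (φ₂ b * ((a : Ω)⁻¹ * φ₁ a)) := by
        rw [h.comm _ (S₁.mul_mem (S₁.inv_mem haS) (val_mem h₁ a)) _ (val_mem h₂ b)]
      _ = ((b : Ω)⁻¹ * φ₂ b) * ((a : Ω)⁻¹ * φ₁ a) := by group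
      _ = _ := (h.comm _ (S₁.mul_mem (S₁.inv_mem haS) (val_mem h₁ a)) _
        (S₂.mul_mem (S₂.inv_mem hbS) (val_mem h₂ b))).symm
  rw [e]
  exact Subgroup.mul_mem_sup ⟨m₁, S₁.mul_mem (S₁.inv_mem haS) (val_mem h₁ a)⟩
    ⟨m₂, S₂.mul_mem (S₂.inv_mem hbS) (val_mem h₂ b)⟩

/-- The maps of `E₁` whose extensions fixing `S₂` lie in `X`. -/
def fixExtSystem (h : IsTwoFactor F E₁ E₂ p) (X : FusionSystem S) : FusionSystem S₁ where
  Hom P := {φ | φ ∈ E₁.Hom P ∧ ∃ ψ ∈ X.Hom (P ⊔ S₂),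
    (∀ x : P, ψ (Subgroup.inclusion le_sup_left x) = φ x) ∧
      ∀ b : S₂, ψ (Subgroup.inclusion le_sup_right b) = b}
  le_of_mem hφ := E₁.le_of_mem hφ.1
  injective_of_mem hφ := E₁.injective_of_mem hφ.1
  conj_mem {P g} hP hg := ⟨E₁.conj_mem hP hg, conjHom _ g,
    X.conj_mem (sup_le (hP.trans h.le_left) h.le_right) (h.le_left hg), fun x => rfl, fun b => by
      show g * (b : Ω) * g⁻¹ = b
      rw [h.comm g hg b b.2, mul_inv_cancel_right]⟩
  comp_mem := by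
    rintro P Q φ ψ ⟨hφ, Φ, hΦ, hΦx, hΦb⟩ ⟨hψ, Ψ, hΨ, hΨx, hΨb⟩ hval
    have hmem : ∀ w, Φ w ∈ Q ⊔ S₂ := hom_sup_mem Φ
      (fun x => Subgroup.mem_sup_left ((hΦx x).symm ▸ hval x))
      (fun b => Subgroup.mem_sup_right ((hΦb b).symm ▸ b.2))
    obtain ⟨χ, hχ, hχx⟩ := exists_comp hΦ hΨ hmem
    refine ⟨E₁.comp_mem hφ hψ hval, χ, hχ, fun x => ?_, fun b => ?_⟩
    · rw [hχx]
      exact (congrArg Ψ (Subtype.ext (hΦx x))).trans (hΨx ⟨φ x, hval x⟩)
    · rw [hχx]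
      exact (congrArg Ψ (Subtype.ext (hΦb b))).trans (hΨb b)
  inv_mem := by
    rintro P φ ⟨hφ, Φ, hΦ, hΦx, hΦb⟩
    obtain ⟨τ, hτ, hτx⟩ := E₁.inv_mem hφ
    obtain ⟨Ψ, hΨ, hΨx⟩ := X.inv_mem hΦ
    have hle : φ.range ⊔ S₂ ≤ Φ.range := by
      refine sup_le ?_ fun b hb => ⟨_, hΦb ⟨b, hb⟩⟩
      rintro _ ⟨x, rfl⟩
      exact ⟨_, hΦx x⟩
    refine ⟨τ, ⟨hτ, _, restrict_mem hΨ hle, ?_, fun b => ?_⟩, hτx⟩
    · rintro ⟨_, x, rfl⟩
      rw [hτx]
      exact (congrArg Ψ (Subtype.ext (hΦx x).symm)).trans (hΨx (Subgroup.inclusion le_sup_left x))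
    · exact (congrArg Ψ (Subtype.ext (hΦb b).symm)).trans
        (hΨx (Subgroup.inclusion le_sup_right b))

/-- A saturated subsystem over `S` with all `p`-automorphisms of `F` contains the extensions of
the residual of a factor. -/
theorem exists_fix_ext [Fact p.Prime] [Finite S] (hS : IsPGroup p S)
    (h : IsTwoFactor F E₁ E₂ p) {X : FusionSystem S} (hX : X.IsSaturated p)
    (hXF : X.IsSubsystemOf F) (hXp : HasPAut X F p) {P : Subgroup Ω} {φ : P →* Ω}
    (hφ : φ ∈ (pPrimeResidualSystem E₁ p).Hom P) : φ ∈ (fixExtSystem h X).Hom P := by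
  have hS₁ := h.le_left
  haveI : Finite S₁ := finite_of_le hS₁
  set K := fixExtSystem h X
  have hKp : HasPAut K E₁ p := by
    intro Q hQ α hα ⟨k, hk⟩
    have hQS : Q ⊔ S₂ ≤ S := sup_le (hQ.1.trans hS₁) h.le_right
    haveI : Finite ↥(Q ⊔ S₂) := finite_of_le hQS
    obtain ⟨ψ, hψ, hψa, hψb⟩ := h.glue Q S₂ _ S₂.subtype (autGroup_hom_mem hQ.1 hα)
      (subtype_mem le_rfl)
    obtain ⟨γ, hγ, hγx⟩ := exists_aut_of_hom hψ (hom_sup_mem ψ
      (fun x => Subgroup.mem_sup_left (by rw [hψa]; exact (α x).2))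
      (fun b => Subgroup.mem_sup_right (by rw [hψb]; exact b.2)))
    have hl : ∀ (j : ℕ) (x : Q), (γ ^ j) (Subgroup.inclusion le_sup_left x) =
        Subgroup.inclusion le_sup_left ((α ^ j) x) := by
      intro j
      induction j with
      | zero => intro x; rfl
      | succ j ih =>
        intro x
        rw [pow_succ' γ, pow_succ' α, MulAut.mul_apply, ih, MulAut.mul_apply]
        exact Subtype.ext ((hγx _).trans (hψa _))
    have hr : ∀ (j : ℕ) (b : S₂), (γ ^ j) (Subgroup.inclusion le_sup_right b) =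
        Subgroup.inclusion le_sup_right b := by
      intro j
      induction j with
      | zero => intro b; rfl
      | succ j ih =>
        intro b
        rw [pow_succ' γ, MulAut.mul_apply, ih]
        exact Subtype.ext ((hγx _).trans (hψb _))
    have hγk : γ ^ p ^ k = 1 := by
      refine MulEquiv.ext fun w => ?_
      have hext : ∀ w, ((γ ^ p ^ k).toMonoidHom : _ →* _) w = w := by
        intro w
        refine Subtype.ext ?_
        exact DFunLike.congr_fun (hom_sup_ext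
          (ψ := ((Q ⊔ S₂ : Subgroup Ω)).subtype.comp (γ ^ p ^ k).toMonoidHom)
          (χ := (Q ⊔ S₂ : Subgroup Ω).subtype)
          (fun x => by
            show ((γ ^ p ^ k) _ : Ω) = _
            rw [hl, hk]; rfl)
          (fun b => by
            show ((γ ^ p ^ k) _ : Ω) = _
            rw [hr]; rfl)) w
      exact hext w
    refine ⟨autGroup_hom_mem hQ.1 hα, _,
      autHom_mem_of_hasPAut hS h.sat hXp hQS hγ ⟨k, hγk⟩, fun x => ?_, fun b => ?_⟩
    · exact (hγx _).trans (hψa x)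
    · exact (hγx _).trans (hψb b)
  have hA : ∀ a ∈ centricAutS E₁ p, autHom a ∈ K.Hom S₁ := by
    intro a ha
    refine (mem_autGroup le_rfl).1 ((?_ : centricAutS E₁ p ≤ K.autGroup S₁) ha)
    refine (Subgroup.closure_le _).2 ?_
    rintro c ⟨hc, Q, ψ, hQ, hψ, hψc⟩
    obtain ⟨-, Ψ, hΨ, hΨx, hΨb⟩ := hψ.2 K hKp
    obtain ⟨β, hβ, hβa, hβb⟩ := h.glue S₁ S₂ _ S₂.subtype (autGroup_hom_mem le_rfl hc)
      (subtype_mem le_rfl)
    have hQS₁ : Q ⊔ S₂ ≤ S₁ ⊔ S₂ := sup_le_sup hQ.1 le_rfl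
    have hcen : F.IsCentric (Q ⊔ S₂) := by
      refine ⟨sup_le (hQ.1.trans hS₁) h.le_right, ?_⟩
      rintro _ ⟨φ', hφ', rfl⟩
      intro y hy
      obtain ⟨a', ha', b', hb', hab⟩ := h.dec y hy.1
      haveI : Finite S₂ := finite_of_le h.le_right
      have hS₂r : S₂ ≤ φ'.range := by
        have hcl := h.symm.stronglyClosed hS
        have hres := restrict_mem hφ' (le_sup_right : S₂ ≤ Q ⊔ S₂)
        have hr := range_eq_self hres fun b => stronglyClosed_map hcl hφ' _ b.2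
        intro b hb
        obtain ⟨w, hw⟩ := hr.ge hb
        exact ⟨_, hw⟩
      have hm := h.full hS hQ.1 (restrict_mem hφ' (le_sup_left : Q ≤ Q ⊔ S₂))
      have haC : a' ∈ centralizerIn S₁ (φ'.comp (Subgroup.inclusion le_sup_left)).range := by
        refine ⟨ha', ?_⟩
        rintro _ ⟨x, rfl⟩
        set w := φ'.comp (Subgroup.inclusion (le_sup_left : Q ≤ Q ⊔ S₂)) x with hw
        have h1 : w * y = y * w := hy.2 w ⟨_, rfl⟩
        have h2 : w * b' = b' * w := h.comm w (val_mem hm x) b' hb'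
        rw [show a' = y * b'⁻¹ by rw [hab, mul_inv_cancel_right]]
        calc w * (y * b'⁻¹) = y * (w * b'⁻¹) := by rw [← mul_assoc, h1, mul_assoc]
          _ = y * (b'⁻¹ * w) := by rw [(Commute.inv_right h2).eq]
          _ = y * b'⁻¹ * w := by group
      obtain ⟨x, hx⟩ := hQ.2 _ (isConj_range hm) haC
      rw [hab]
      exact Subgroup.mul_mem _ ⟨_, hx⟩ (hS₂r hb')
    have hβX : β ∈ X.Hom (S₁ ⊔ S₂) := by
      refine Fusion87.mem_of_restrict_centric hS h.sat hX hXF hcen hQS₁ hβ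
        (mem_congr hΨ ?_)
      refine fun w => DFunLike.congr_fun (hom_sup_ext (ψ := β.comp (Subgroup.inclusion hQS₁))
        (χ := Ψ) (fun x => ?_) (fun b => ?_)) w
      · refine Eq.trans ?_ (hΨx x).symm
        refine Eq.trans ?_ (hψc x (hQ.1 x.2)).symm
        exact (congrArg β (Subtype.ext rfl)).trans (hβa ⟨x, hQ.1 x.2⟩)
      · refine Eq.trans ?_ (hΨb b).symm
        exact (congrArg β (Subtype.ext rfl)).trans (hβb b)
    exact (mem_autGroup le_rfl).2 ⟨autGroup_hom_mem le_rfl hc, β, hβX, hβa, hβb⟩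
  obtain ⟨-, a, ha, φ₀, hφ₀, hx⟩ := hφ
  exact comp_of_apply (hφ₀.2 K hKp) (hA a ha) fun x =>
    ⟨val_mem hφ₀ x, hx x (val_mem hφ₀ x)⟩

/-- If both factors are their own residuals, a normal subsystem over `S` is everything. -/
theorem eq_of_weaklyNormal_top [Fact p.Prime] [Finite S] (hS : IsPGroup p S)
    (h : IsTwoFactor F E₁ E₂ p) (hr₁ : pPrimeResidualSystem E₁ p = E₁)
    (hr₂ : pPrimeResidualSystem E₂ p = E₂) {X : FusionSystem S} (hX : X.IsWeaklyNormalIn F p) :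
    X = F := by
  have hres : (pPrimeResidualSystem F p).IsSubsystemOf X :=
    pPrimeResidual_subsystem hS (isWeaklyNormalIn_self h.sat)
      (isPPrimeResidual_pPrimeResidualSystem hS h.sat) hX
  have hXp : HasPAut X F p := fun P hP α hα hk =>
    hres P (hasPAut_pPrimeResidualSystem F p P hP α hα hk)
  have hXF := hX.2.2.1
  refine hom_ext fun P => Set.Subset.antisymm (hXF P) fun φ hφ => ?_
  obtain ⟨P₁, P₂, φ₁, φ₂, h₁, h₂, hx⟩ := h.decomp P φ hφ
  obtain ⟨-, Ψ₁, hΨ₁, hΨ₁a, hΨ₁b⟩ :=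
    exists_fix_ext hS h hX.1 hXF hXp (φ := φ₁) (by rw [hr₁]; exact h₁)
  obtain ⟨-, Ψ₂, hΨ₂, hΨ₂b, hΨ₂a⟩ :=
    exists_fix_ext hS h.symm hX.1 hXF hXp (φ := φ₂) (by rw [hr₂]; exact h₂)
  have hle : P ≤ P₁ ⊔ S₂ := fun x hxP => by
    obtain ⟨a, b, hab, -⟩ := hx ⟨x, hxP⟩
    rw [show x = a * b from hab]
    exact Subgroup.mul_mem_sup a.2 (src_le h₂ b.2)
  have hval : ∀ (x : P) (a : P₁) (b : P₂), (x : Ω) = a * b →
      Ψ₁ (Subgroup.inclusion hle x) = φ₁ a * b := by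
    intro x a b hab
    rw [show Subgroup.inclusion hle x = Subgroup.inclusion le_sup_left a *
      Subgroup.inclusion le_sup_right (⟨b, src_le h₂ b.2⟩ : S₂) from Subtype.ext hab, map_mul,
      hΨ₁a, hΨ₁b]
  have hmem : ∀ x : P, Ψ₁.comp (Subgroup.inclusion hle) x ∈ P₂ ⊔ S₁ := fun x => by
    obtain ⟨a, b, hab, -⟩ := hx x
    show Ψ₁ _ ∈ _
    rw [hval x a b hab]
    exact Subgroup.mul_mem _ (Subgroup.mem_sup_right (val_mem h₁ a)) (Subgroup.mem_sup_left b.2)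
  obtain ⟨χ, hχ, hχx⟩ := exists_comp (restrict_mem hΨ₁ hle) hΨ₂ hmem
  refine mem_congr hχ fun x => ?_
  obtain ⟨a, b, hab, hφab⟩ := hx x
  rw [hφab, hχx, show (⟨_, hmem x⟩ : ↥(P₂ ⊔ S₁)) =
    Subgroup.inclusion le_sup_right (⟨φ₁ a, val_mem h₁ a⟩ : S₁) *
      Subgroup.inclusion le_sup_left b from Subtype.ext (hval x a b hab), map_mul, hΨ₂a, hΨ₂b]

/-- A residual system is its own residual. -/
theorem residual_residual [Fact p.Prime] [Finite S] (hS : IsPGroup p S) {F : FusionSystem S}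
    (hF : F.IsSaturated p) :
    pPrimeResidualSystem (pPrimeResidualSystem F p) p = pPrimeResidualSystem F p := by
  have hR := isSaturated_pPrimeResidualSystem hS hF
  have hRR := isSaturated_pPrimeResidualSystem hS hR
  refine hom_ext fun P => Set.Subset.antisymm (fun φ hφ => hφ.1) ?_
  refine pPrimeResidualSystem_le hS hF hRR (hasPrimeToPIndexIn_of_hasPAut hS hF
    (fun Q φ hφ => hφ.1.1) fun Q hQ α hα hk => ?_) P
  exact autHom_mem_of_hasPAut hS hR (hasPAut_pPrimeResidualSystem _ p) hQ.1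
    ((mem_autGroup hQ.1).2 (hasPAut_pPrimeResidualSystem F p Q hQ α hα hk)) hk

/-- The product of the residual wedges: a normal two-factor subsystem containing a given
component. -/
theorem exists_product [Fact p.Prime] [Finite S] (hS : IsPGroup p S)
    (h : IsTwoFactor F E₁ E₂ p) {V₁ V₂ : Subgroup Ω} {X₁ : FusionSystem V₁} {X₂ : FusionSystem V₂}
    (hX₁ : X₁.IsNormalIn E₁ p) (hX₂ : X₂.IsNormalIn E₂ p) :
    ∃ D : FusionSystem (V₁ ⊔ V₂), IsTwoFactor D X₁ X₂ p ∧ D.IsNormalIn F p := by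
  have hV₁ := hX₁.1.2.2.2.1.1
  have hV₂ := hX₂.1.2.2.2.1.1
  haveI : Finite V₁ := finite_of_le (hV₁.trans h.le_left)
  haveI : Finite V₂ := finite_of_le (hV₂.trans h.le_right)
  obtain ⟨D, hD⟩ := exists_isTwoFactor (hS.to_le (hV₁.trans h.le_left))
    (hS.to_le (hV₂.trans h.le_right)) hX₁.1.1 hX₂.1.1
    (fun a ha b hb => h.comm a (hV₁ ha) b (hV₂ hb))
    (fun P φ hφ x hx => h.fix₁ P φ (hX₁.1.2.2.1 P hφ) x (hV₂ hx))
    (fun P φ hφ x hx => h.fix₂ P φ (hX₂.1.2.2.1 P hφ) x (hV₁ hx))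
  exact ⟨D, hD, isNormalIn_product hS h hD hX₁ hX₂⟩

/-- The statement for systems over groups of order less than `n`. -/
def Below (Ω : Type u) [Group Ω] (p n : ℕ) : Prop :=
  ∀ (S S₁ S₂ T : Subgroup Ω) (F : FusionSystem S) (E₁ : FusionSystem S₁) (E₂ : FusionSystem S₂)
    (C : FusionSystem T), Finite S → IsPGroup p S → Nat.card S < n → IsTwoFactor F E₁ E₂ p →
      C.IsComponentIn F p → C.IsComponentIn E₁ p ∨ C.IsComponentIn E₂ p

theorem residual_case {n : ℕ} (ih : Below Ω p n) {T S : Subgroup Ω} {C : FusionSystem T}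
    {F : FusionSystem S} (hsn : C.IsSubnormalIn F p) :
    p.Prime → Finite S → IsPGroup p S → Nat.card S ≤ n → C.Quasisimple p →
      ∀ {S₁ S₂ : Subgroup Ω} (E₁ : FusionSystem S₁) (E₂ : FusionSystem S₂),
        IsTwoFactor F E₁ E₂ p → pPrimeResidualSystem E₁ p = E₁ → pPrimeResidualSystem E₂ p = E₂ →
          C.IsComponentIn E₁ p ∨ C.IsComponentIn E₂ p := by
  induction hsn with
  | refl F p =>
    intro hp hfin hS _ hq S₁ S₂ E₁ E₂ h _ _
    haveI : Fact p.Prime := ⟨hp⟩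
    have hC := (⟨IsSubnormalIn.refl F p, hq⟩ : F.IsComponentIn F p)
    rcases le_left_or_le_center hS hq h with h1 | h1
    · exact Or.inl (component_in_normal hS hC (h.isNormalIn hS) h1)
    rcases le_left_or_le_center hS hq h.symm with h2 | h2
    · exact Or.inr (component_in_normal hS hC (h.symm.isNormalIn hS) h2)
    refine absurd ⟨⟨fun a b => Subtype.ext ?_⟩⟩ (not_isMulCommutative_of_quasisimple hS hq)
    obtain ⟨a₁, ha₁, a₂, ha₂, ha⟩ := h.dec a a.2
    have hc := F.center_le_centralizer (Subgroup.mul_mem _ (h1 ha₁) (h2 ha₂)) b b.2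
    rw [← ha] at hc
    exact hc.symm
  | @step W S C X F p hCX hX ihX =>
    intro hp hfin hS hcard hq S₁ S₂ E₁ E₂ h hr₁ hr₂
    haveI : Fact p.Prime := ⟨hp⟩
    have hC : C.IsComponentIn F p := ⟨IsSubnormalIn.step hCX hX, hq⟩
    have hS₁ := h.le_left
    have hS₂ := h.le_right
    haveI : Finite S₁ := finite_of_le hS₁
    haveI : Finite S₂ := finite_of_le hS₂
    obtain ⟨-, hW₁⟩ := Wedge.isWeaklyNormalIn_wedge_sub hS hX (h.isNormalIn hS)
    obtain ⟨-, hW₂⟩ := Wedge.isWeaklyNormalIn_wedge_sub hS hX (h.symm.isNormalIn hS)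
    have hN₁ := isNormalIn_pPrimeResidualSystem (hS.to_le hS₁) hW₁
    have hN₂ := isNormalIn_pPrimeResidualSystem (hS.to_le hS₂) hW₂
    obtain ⟨D, hD, hDn⟩ := exists_product hS h hN₁ hN₂
    have hVW : T ≤ W ⊓ S₁ ⊔ W ⊓ S₂ :=
      hyperfocal_le hS h (fun P => (isSubsystemOf_of_subnormal hC.1) P) hq.2.1
        (Components.le_of_subnormal hCX) hX.1.2.2.2.1
    have hle : W ⊓ S₁ ⊔ W ⊓ S₂ ≤ S :=
      sup_le (inf_le_right.trans hS₁) (inf_le_right.trans hS₂)
    by_cases heq : W ⊓ S₁ ⊔ W ⊓ S₂ = S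
    · have hWS : W = S := le_antisymm hX.1.2.2.2.1.1
        (heq.ge.trans (sup_le inf_le_left inf_le_left))
      subst hWS
      obtain rfl := eq_of_weaklyNormal_top hS h hr₁ hr₂ hX.1
      exact ihX ih hp hfin hS hcard hq E₁ E₂ h hr₁ hr₂
    · haveI : Finite ↥(W ⊓ S₁ ⊔ W ⊓ S₂) := finite_of_le hle
      have hlt : Nat.card ↥(W ⊓ S₁ ⊔ W ⊓ S₂) < n :=
        lt_of_lt_of_le (lt_of_le_of_ne (Subgroup.card_le_of_le hle) fun e =>
          heq (Subgroup.eq_of_le_of_card_ge hle e.ge)) hcard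
      rcases ih _ _ _ _ D _ _ C inferInstance (hS.to_le hle) hlt hD
        (component_in_normal hS hC hDn hVW) with h' | h'
      · exact Or.inl ⟨subnormal_trans h'.1 hN₁, hq⟩
      · exact Or.inr ⟨subnormal_trans h'.1 hN₂, hq⟩

theorem below_all [Fact p.Prime] : ∀ n, Below Ω p n := by
  intro n
  induction n with
  | zero => intro S S₁ S₂ T F E₁ E₂ C _ _ h; exact absurd h (Nat.not_lt_zero _)
  | succ n ih =>
    intro S S₁ S₂ T F E₁ E₂ C hfin hS hcard h hC
    have hS₁ := h.le_left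
    have hS₂ := h.le_right
    haveI : Finite S₁ := finite_of_le hS₁
    haveI : Finite S₂ := finite_of_le hS₂
    have hN₁ := isNormalIn_pPrimeResidualSystem (hS.to_le hS₁) (isWeaklyNormalIn_self h.sat₁)
    have hN₂ := isNormalIn_pPrimeResidualSystem (hS.to_le hS₂) (isWeaklyNormalIn_self h.sat₂)
    obtain ⟨D, hD, hDn⟩ := exists_product hS h hN₁ hN₂
    haveI : Finite ↥(S₁ ⊔ S₂) := finite_of_le h.top.le
    have hle : Nat.card ↥(S₁ ⊔ S₂) ≤ n :=
      le_trans (Subgroup.card_le_of_le h.top.le) (Nat.lt_succ_iff.1 hcard)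
    have hC' := component_in_normal hS hC hDn
      ((Components.le_of_subnormal hC.1).trans h.top.ge)
    rcases residual_case ih hC'.1 Fact.out inferInstance (hS.to_le h.top.le) hle hC.2 _ _ hD
      (residual_residual (hS.to_le hS₁) h.sat₁) (residual_residual (hS.to_le hS₂) h.sat₂)
      with h' | h'
    · exact Or.inl ⟨subnormal_trans h'.1 hN₁, hC.2⟩
    · exact Or.inr ⟨subnormal_trans h'.1 hN₂, hC.2⟩

/-- A component of a two-factor system is a component of a factor. -/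
theorem component_cases [Fact p.Prime] [Finite S] (hS : IsPGroup p S)
    (h : IsTwoFactor F E₁ E₂ p) {T : Subgroup Ω} {C : FusionSystem T}
    (hC : C.IsComponentIn F p) : C.IsComponentIn E₁ p ∨ C.IsComponentIn E₂ p :=
  below_all (Nat.card S + 1) S S₁ S₂ T F E₁ E₂ C inferInstance hS (Nat.lt_succ_self _) h hC

end Cfsg.Agent.Lib.Fusion.TwoFactor
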